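import Groth.Agent.AcycDef.StupidColim
import Groth.Agent.BrownDerived.Basic
import Groth.Agent.Hocolim.Basic
import Groth.Agent.KInj.Derived
import Groth.Agent.KInj.Existence
import Mathlib

/-!
# Derived functors preserving countable sums are computed by complexes of acyclic objects
-/

set_option autoImplicit false
set_option linter.style.haveILetI false
set_option linter.unusedSectionVars false
set_option backward.isDefEq.respectTransparency false
set_option backward.isDefEq.respectTransparency.types false

universe w w' v u u'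

open CategoryTheory Limits

namespace Groth.Agent.AcycDef

/-- sequential colimits are exact in Grothendieck abelian categories -/
theorem exactColimits_nat (C : Type u) [Category.{v} C] [Abelian C] [IsGrothendieckAbelian.{v} C] :
    HasExactColimitsOfShape ℕ C :=
  HasExactColimitsOfShape.of_domain_equivalence (C := C) (AsSmall.equiv.{0, 0, v} (C := ℕ)).symm

/-- a functor preserving finite coproducts and filtered colimits preserves coproducts -/
theorem preservesCoproducts_of_filtered {C : Type u} [Category.{v} C] [HasCoproducts.{v} C] {D : Type u'}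
    [Category.{v} D] [HasCoproducts.{v} D] (L : C ⥤ D) [PreservesFiniteCoproducts L]
    (hL : ∀ (J : Type v) [SmallCategory J] [IsFiltered J], PreservesColimitsOfShape J L)
    [∀ (J : Type v) [SmallCategory J] [IsFiltered J], HasColimitsOfShape J C]
    [∀ (J : Type v) [SmallCategory J] [IsFiltered J], HasColimitsOfShape J D] (ι : Type v) :
    PreservesColimitsOfShape (Discrete ι) L := by
  classical
  haveI := hL (Finset (Discrete ι))
  refine ⟨fun {K} => ?_⟩
  let g : ι → C := fun i => K.obj ⟨i⟩
  suffices IsIso (sigmaComparison L g) by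
    haveI : PreservesColimit (Discrete.functor g) L := PreservesCoproduct.of_iso_comparison L g
    exact preservesColimit_of_iso_diagram _ (Discrete.natIso (fun _ => Iso.refl _) : Discrete.functor g ≅ K)
  let h1 := CoproductsFromFiniteFiltered.isColimitFiniteSubproductsCocone g
  let h2 := CoproductsFromFiniteFiltered.isColimitFiniteSubproductsCocone (fun i => L.obj (g i))
  let e : CoproductsFromFiniteFiltered.liftToFinsetObj (Discrete.functor fun i => L.obj (g i)) ≅
      CoproductsFromFiniteFiltered.liftToFinsetObj (Discrete.functor g) ⋙ L :=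
    NatIso.ofComponents (fun S => (PreservesCoproduct.iso L fun x : S => g x.1.as).symm) fun {S T} h => by
      refine Sigma.hom_ext _ _ fun x => ?_
      simp [← Functor.map_comp]
  let E := h2.coconePointsIsoOfNatIso (isColimitOfPreserves L h1) e
  suffices sigmaComparison L g = E.hom by rw [this]; infer_instance
  refine Sigma.hom_ext _ _ fun i => ?_
  rw [ι_comp_sigmaComparison]
  have := IsColimit.comp_coconePointsIsoOfNatIso_hom h2 (isColimitOfPreserves L h1) e {⟨i⟩}
  have hι : Sigma.ι (fun x : ({⟨i⟩} : Finset (Discrete ι)) => L.obj (g x.1.as)) ⟨⟨i⟩, Finset.mem_singleton_self _⟩ ≫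
      (CoproductsFromFiniteFiltered.finiteSubcoproductsCocone fun i => L.obj (g i)).ι.app {⟨i⟩} =
        Sigma.ι (fun i => L.obj (g i)) i := by simp
  rw [← hι, Category.assoc]
  refine Eq.symm (Eq.trans (congrArg (fun m => Sigma.ι (fun x : ({⟨i⟩} : Finset (Discrete ι)) => L.obj (g x.1.as))
    ⟨⟨i⟩, Finset.mem_singleton_self _⟩ ≫ m) this) ?_)
  simp [e, ← Functor.map_comp]

variable {A : Type u} [Category.{v} A] [Abelian A] [IsGrothendieckAbelian.{v} A]
  {B : Type u'} [Category.{v} B] [Abelian B] [IsGrothendieckAbelian.{v} B] (F : A ⥤ B) [F.Additive]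

theorem preservesColimitsOfShape_mapHC (J : Type) [SmallCategory J] [PreservesColimitsOfShape J F]
    [HasColimitsOfShape J A] [HasColimitsOfShape J B] :
    PreservesColimitsOfShape J (F.mapHomologicalComplex (ComplexShape.up ℤ)) :=
  ⟨fun {D} => ⟨fun hc => ⟨HomologicalComplex.isColimitOfEval _ _ fun i =>
    isColimitOfPreserves (HomologicalComplex.eval A (ComplexShape.up ℤ) i ⋙ F) hc⟩⟩⟩

variable [HasDerivedCategory.{w} A] [HasDerivedCategory.{w'} B] (RF : DerivedCategory A ⥤ DerivedCategory B)
  (α : F.mapHomotopyCategory (ComplexShape.up ℤ) ⋙ DerivedCategory.Qh ⟶ DerivedCategory.Qh ⋙ RF)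

/-- the unit on complexes -/
noncomputable def unitQ : F.mapHomologicalComplex (ComplexShape.up ℤ) ⋙ DerivedCategory.Q ⟶ DerivedCategory.Q ⋙ RF where
  app Y := (DerivedCategory.quotientCompQhIso B).inv.app ((F.mapHomologicalComplex _).obj Y) ≫
    α.app ((HomotopyCategory.quotient A (ComplexShape.up ℤ)).obj Y) ≫
    RF.map ((DerivedCategory.quotientCompQhIso A).hom.app Y)
  naturality Y Z f := by
    have n1 := α.naturality ((HomotopyCategory.quotient A (ComplexShape.up ℤ)).map f)
    change DerivedCategory.Qh.map ((HomotopyCategory.quotient B (ComplexShape.up ℤ)).map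
      ((F.mapHomologicalComplex _).map f)) ≫ _ = _ ≫
        RF.map (DerivedCategory.Qh.map ((HomotopyCategory.quotient A (ComplexShape.up ℤ)).map f)) at n1
    simp only [Functor.comp_map, Category.assoc]
    rw [DerivedCategory.quotientCompQhIso_inv_naturality_assoc, reassoc_of% n1, ← RF.map_comp, ← RF.map_comp,
      DerivedCategory.quotientCompQhIso_hom_naturality]

theorem isIso_unitQ_iff (Y : CochainComplex A ℤ) :
    IsIso ((unitQ F RF α).app Y) ↔ IsIso (α.app ((HomotopyCategory.quotient A (ComplexShape.up ℤ)).obj Y)) := by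
  constructor
  · intro h
    change IsIso (_ ≫ _ ≫ _) at h
    have h' := @IsIso.of_isIso_comp_left _ _ _ _ _ _ _ inferInstance h
    exact @IsIso.of_isIso_comp_right _ _ _ _ _ _ _ inferInstance h'
  · intro h
    exact IsIso.comp_isIso' inferInstance (IsIso.comp_isIso' h inferInstance)

/-- the class of K-injective objects of the homotopy category -/
def KInjCx : ObjectProperty (HomotopyCategory A (ComplexShape.up ℤ)) := fun K => CochainComplex.IsKInjective K.as

theorem isDeforming_kInj : KInj.IsDeforming (DerivedCategory.Qh (C := A))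
    (F.mapHomotopyCategory (ComplexShape.up ℤ) ⋙ DerivedCategory.Qh) (KInjCx (A := A)) where
  surj {X I} hI := by
    obtain ⟨I⟩ := I
    haveI : CochainComplex.IsKInjective I := hI
    exact (CochainComplex.IsKInjective.Qh_map_bijective X I).2
  wd {X I} f g hI e := by
    obtain ⟨I⟩ := I
    haveI : CochainComplex.IsKInjective I := hI
    exact congrArg _ ((CochainComplex.IsKInjective.Qh_map_bijective X I).1 e)
  res d := by
    obtain ⟨I, f, hI, hf⟩ := BrownDerived.hKinj ((DerivedCategory.Q (C := A)).objPreimage d)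
    haveI := hf
    exact ⟨(HomotopyCategory.quotient A (ComplexShape.up ℤ)).obj I, hI,
      ⟨((DerivedCategory.Q (C := A)).objObjPreimageIso d).symm ≪≫ asIso (DerivedCategory.Q.map f) ≪≫
        ((DerivedCategory.quotientCompQhIso A).app I).symm⟩⟩

variable [RF.IsRightDerivedFunctor α (HomotopyCategory.quasiIso A (ComplexShape.up ℤ))]

theorem isIso_unitQ_kInj (I : CochainComplex A ℤ) [I.IsKInjective] : IsIso ((unitQ F RF α).app I) :=
  (isIso_unitQ_iff F RF α I).2 ((isDeforming_kInj F).isIso_app (HomotopyCategory.quasiIso A (ComplexShape.up ℤ)) RF α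
    (show KInjCx ((HomotopyCategory.quotient A (ComplexShape.up ℤ)).obj I) from ‹I.IsKInjective›))

/-- transfer along a quasi-isomorphism into a K-injective complex -/
theorem isIso_unitQ_of_quasiIso {K I : CochainComplex A ℤ} [I.IsKInjective] (s : K ⟶ I) [QuasiIso s]
    (h : QuasiIso ((F.mapHomologicalComplex (ComplexShape.up ℤ)).map s)) : IsIso ((unitQ F RF α).app K) := by
  haveI := isIso_unitQ_kInj F RF α I
  have n1 := (unitQ F RF α).naturality s
  haveI : IsIso ((F.mapHomologicalComplex (ComplexShape.up ℤ) ⋙ DerivedCategory.Q).map s) :=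
    (DerivedCategory.isIso_Q_map_iff_quasiIso _ _).2 h
  haveI : IsIso ((DerivedCategory.Q ⋙ RF).map s) := inferInstanceAs (IsIso (RF.map (DerivedCategory.Q.map s)))
  exact IsIso.of_isIso_fac_right n1.symm

variable [PreservesFiniteLimits F]

/-- bounded below complexes of acyclic objects compute the derived functor -/
theorem isIso_unitQ_of_bdd (K : CochainComplex A ℤ) (a : ℤ) [K.IsStrictlyGE a] (hK : ∀ k, Acyc F (K.X k)) :
    IsIso ((unitQ F RF α).app K) := by
  obtain ⟨I, s, hs, hI, hGE⟩ := CochainComplex.Plus.modelCategoryQuillen.exists_quasiIso_injective K a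
  haveI := hI
  haveI : I.IsKInjective := CochainComplex.isKInjective_of_injective I a
  refine isIso_unitQ_of_quasiIso F RF α s (quasiIso_map_of_cone F s ?_)
  haveI : (CochainComplex.mappingCone s).IsStrictlyGE (a - 1) := (CochainComplex.isStrictlyGE_iff _ _).2 fun k hk => by
    rw [IsZero.iff_id_eq_zero, ← CochainComplex.mappingCone.id_X s k (k + 1) rfl,
      (K.isZero_of_isStrictlyGE a (k + 1) (by omega)).eq_of_tgt ((CochainComplex.mappingCone.fst s).1.v k (k + 1) rfl) 0,
      (I.isZero_of_isStrictlyGE a k (by omega)).eq_of_tgt ((CochainComplex.mappingCone.snd s).v k k (add_zero k)) 0,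
      zero_comp, zero_comp, add_zero]
  exact acyclic_map_of_bdd F (a := a - 1) ((DerPlus.quasiIso_iff_acyclic_mappingCone s).1 inferInstance)
    (acyc_mappingCone F s hK fun k => acyc_injective F (I.X k))

variable [PreservesColimitsOfShape (Discrete ℕ) RF] [PreservesColimitsOfShape (Discrete ℕ) F]

/-- coproducts of complexes computing the derived functor compute it -/
theorem isIso_unitQ_coprod (K : ℕ → CochainComplex A ℤ) (h : ∀ m, IsIso ((unitQ F RF α).app (K m))) :
    IsIso ((unitQ F RF α).app (∐ K)) := by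
  let FC := F.mapHomologicalComplex (ComplexShape.up ℤ)
  haveI := preservesColimitsOfShape_mapHC F (Discrete ℕ)
  obtain ⟨hA⟩ := DQCoh.nonempty_isColimit_Q_coprod (A := A) BrownDerived.hKinj K
  obtain ⟨hB⟩ := DQCoh.nonempty_isColimit_Q_coprod (A := B) BrownDerived.hKinj (fun m => FC.obj (K m))
  have h₁ : IsColimit (Cofan.mk (RF.obj (DerivedCategory.Q.obj (∐ K))) fun m => RF.map (DerivedCategory.Q.map (Sigma.ι K m))) :=
    isColimitCofanMkObjOfIsColimit RF _ _ hA
  have h₂ : IsColimit (Cofan.mk (DerivedCategory.Q.obj (FC.obj (∐ K))) fun m => DerivedCategory.Q.map (FC.map (Sigma.ι K m))) := by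
    refine IsColimit.ofIsoColimit hB (Cofan.ext (DerivedCategory.Q.mapIso (asIso (sigmaComparison FC K))) fun m => ?_)
    show DerivedCategory.Q.map (Sigma.ι (fun m => FC.obj (K m)) m) ≫ DerivedCategory.Q.map (sigmaComparison FC K) = _
    rw [← Functor.map_comp, ι_comp_sigmaComparison]
    rfl
  let e := IsColimit.coconePointsIsoOfNatIso h₂ h₁
    (Discrete.natIso fun m => @asIso _ _ _ _ ((unitQ F RF α).app (K m.as)) (h m.as))
  have he : (unitQ F RF α).app (∐ K) = e.hom := h₂.hom_ext fun m => by
    rw [IsColimit.comp_coconePointsIsoOfNatIso_hom h₂ h₁]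
    exact (unitQ F RF α).naturality (Sigma.ι K m.as)
  rw [he]
  infer_instance

variable [PreservesColimitsOfShape ℕ F]

include RF α in
/-- the functor preserves acyclicity of complexes of acyclic objects -/
theorem acyclic_map_of_sums (N : CochainComplex A ℤ) (hN : N.Acyclic) (hX : ∀ k, Acyc F (N.X k)) :
    ((F.mapHomologicalComplex (ComplexShape.up ℤ)).obj N).Acyclic := by
  let FC := F.mapHomologicalComplex (ComplexShape.up ℤ)
  haveI := preservesColimitsOfShape_mapHC F (Discrete ℕ)
  haveI := preservesColimitsOfShape_mapHC F ℕ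
  let L := truncSeq N
  haveI := exactColimits_nat (CochainComplex A ℤ)
  haveI := exactColimits_nat (CochainComplex B ℤ)
  obtain ⟨w, hw⟩ := Groth.Agent.S0986.result L
  obtain ⟨w', hw'⟩ := Groth.Agent.S0986.result (L ⋙ FC)
  let eN : colimit L ≅ N := (colimit.isColimit L).coconePointUniqueUpToIso (isColimitTruncCocone N)
  let φ : ∐ L.obj ⟶ ∐ L.obj := 𝟙 _ - DerLim.shiftMap L.obj (fun n => L.map (homOfLE (Nat.le_succ n)))
  haveI : QuasiIso φ := PClassRes.quasiIso_f_of_acyclic hw fun i => (hN i).of_iso eN.symm
  haveI hu : IsIso ((unitQ F RF α).app (∐ L.obj)) :=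
    isIso_unitQ_coprod F RF α L.obj fun m => isIso_unitQ_of_bdd F RF α (trunc N m) (-(m : ℤ)) (acyc_trunc N F hX m)
  have hFφ : QuasiIso (FC.map φ) := by
    have n1 := (unitQ F RF α).naturality φ
    haveI : IsIso ((DerivedCategory.Q ⋙ RF).map φ) := inferInstanceAs (IsIso (RF.map (DerivedCategory.Q.map φ)))
    exact (DerivedCategory.isIso_Q_map_iff_quasiIso _ _).1 (IsIso.of_isIso_fac_right n1)
  let φ' : ∐ (L ⋙ FC).obj ⟶ ∐ (L ⋙ FC).obj :=
    𝟙 _ - DerLim.shiftMap (L ⋙ FC).obj (fun n => (L ⋙ FC).map (homOfLE (Nat.le_succ n)))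
  haveI : IsIso (sigmaComparison FC L.obj) := inferInstance
  have hcomm : φ' ≫ sigmaComparison FC L.obj = sigmaComparison FC L.obj ≫ FC.map φ :=
    Hocolim.comparison_comm FC L.obj (fun n => L.map (homOfLE (Nat.le_succ n)))
  have hφ' : QuasiIso φ' := by
    haveI := hFφ
    have e : φ' = sigmaComparison FC L.obj ≫ FC.map φ ≫ inv (sigmaComparison FC L.obj) := by
      rw [← Category.assoc, IsIso.eq_comp_inv]
      exact hcomm
    rw [e]
    infer_instance
  have hC : (colimit (L ⋙ FC)).Acyclic := fun i => by
    rw [HomologicalComplex.exactAt_iff_isZero_homology]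
    haveI h1 : IsIso (HomologicalComplex.homologyMap φ' i) := (quasiIsoAt_iff_isIso_homologyMap _ _).1 (hφ'.quasiIsoAt i)
    haveI h2 : IsIso (HomologicalComplex.homologyMap φ' (i + 1)) :=
      (quasiIsoAt_iff_isIso_homologyMap _ _).1 (hφ'.quasiIsoAt (i + 1))
    refine (hw'.homology_exact₃ i (i + 1) rfl).isZero_X₂ ?_ ?_
    · exact ((hw'.homology_exact₂ i).epi_f_iff).1 (inferInstanceAs (Epi (HomologicalComplex.homologyMap φ' i)))
    · exact ((hw'.homology_exact₁ i (i + 1) rfl).mono_g_iff).1
        (inferInstanceAs (Mono (HomologicalComplex.homologyMap φ' (i + 1))))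
  exact fun i => (hC i).of_iso ((preservesColimitIso FC L).symm ≪≫ FC.mapIso eN)

/-- complexes of acyclic objects compute the derived functor -/
theorem isIso_unit_of_acyc (K : CochainComplex A ℤ) (hK : ∀ k, Acyc F (K.X k)) :
    IsIso (α.app ((HomotopyCategory.quotient A (ComplexShape.up ℤ)).obj K)) := by
  rw [← isIso_unitQ_iff]
  obtain ⟨I, s, hI, hs, -, hinj⟩ := KInj.exists_kInjective K
  haveI := hI
  haveI := hs
  exact isIso_unitQ_of_quasiIso F RF α s (quasiIso_map_of_cone F s
    (acyclic_map_of_sums F RF α _ ((DerPlus.quasiIso_iff_acyclic_mappingCone s).1 inferInstance)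
      (acyc_mappingCone F s hK fun k => haveI := hinj k; acyc_injective F (I.X k))))

end Groth.Agent.AcycDef
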