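import Groth.Agent.AcycDef.Deform
import Groth.Agent.RDerLib.LES
import Groth.Agent.PClassRes.Basic
import Groth.Agent.DerPlus.Acyclic
import Mathlib

/-!
# Acyclic objects of a functor of bounded cohomological dimension
-/

set_option autoImplicit false
set_option linter.style.haveILetI false
set_option backward.isDefEq.respectTransparency false
set_option backward.isDefEq.respectTransparency.types false

universe w w' v v' u u'

open CategoryTheory Limits

namespace Groth.Agent.AcycDef

variable {A : Type u} [Category.{v} A] [Abelian A] [HasInjectiveResolutions A]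
  {B : Type u'} [Category.{v'} B] [Abelian B] (F : A ⥤ B) [F.Additive]

instance : EnoughInjectives A :=
  ⟨fun X => ⟨{ J := (injectiveResolution X).cocomplex.X 0
               f := RDerLib.ι₀ (injectiveResolution X)
               injective := (injectiveResolution X).injective 0 }⟩⟩

/-- right acyclic objects -/
def Acyc : ObjectProperty A := fun X => ∀ i : ℕ, 0 < i → IsZero ((F.rightDerived i).obj X)

/-- shift along a short exact sequence with acyclic middle -/
theorem isZero_quot {S : ShortComplex A} (hS : S.ShortExact) (h2 : Acyc F S.X₂) {i : ℕ} (hi : 0 < i)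
    (h1 : IsZero ((F.rightDerived (i + 1)).obj S.X₁)) : IsZero ((F.rightDerived i).obj S.X₃) :=
  (RDerLib.exact₃ F (RDerLib.res hS) i (i + 1) rfl).isZero_X₂ ((h2 i hi).eq_of_src _ _) (h1.eq_of_tgt _ _)

theorem isZero_sub {S : ShortComplex A} (hS : S.ShortExact) {i : ℕ}
    (h3 : IsZero ((F.rightDerived i).obj S.X₃)) (h2 : IsZero ((F.rightDerived (i + 1)).obj S.X₂)) :
    IsZero ((F.rightDerived (i + 1)).obj S.X₁) :=
  (RDerLib.exact₁ F (RDerLib.res hS) i (i + 1) rfl).isZero_X₂ (h3.eq_of_src _ _) (h2.eq_of_tgt _ _)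

/-- vanishing propagates upwards -/
theorem isZero_above {n : ℕ} (hn : ∀ X : A, IsZero ((F.rightDerived n).obj X)) :
    ∀ (k : ℕ) (X : A), IsZero ((F.rightDerived (n + k)).obj X) := by
  intro k
  induction k with
  | zero => exact hn
  | succ k ih =>
    intro X
    let I := injectiveResolution X
    let ι : X ⟶ I.cocomplex.X 0 := RDerLib.ι₀ I
    haveI : Mono ι := inferInstance
    haveI := I.injective 0
    have hS : (ShortComplex.mk ι (cokernel.π ι) (cokernel.condition ι)).ShortExact :=
      { exact := ShortComplex.exact_cokernel ι, mono_f := inferInstance, epi_g := inferInstance }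
    exact isZero_sub F hS (ih _) (F.isZero_rightDerived_obj_injective_succ (n + k) _)

theorem acyc_injective (I : A) [Injective I] : Acyc F I := fun i hi => by
  obtain ⟨j, rfl⟩ : ∃ j, i = j + 1 := ⟨i - 1, by omega⟩
  exact F.isZero_rightDerived_obj_injective_succ j I

theorem exists_mono_acyc (X : A) : ∃ (Y : A) (i : X ⟶ Y), Acyc F Y ∧ Mono i :=
  haveI := (injectiveResolution X).injective 0
  ⟨_, RDerLib.ι₀ (injectiveResolution X), acyc_injective F _, inferInstance⟩

theorem acyc_biprod {X Y : A} (hX : Acyc F X) (hY : Acyc F Y) : Acyc F (X ⊞ Y) := fun i hi => by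
  haveI := preservesBinaryBiproducts_of_preservesBiproducts (F.rightDerived i)
  have h := ((F.rightDerived i).mapBiprod X Y)
  exact IsZero.of_iso ((biprod_isZero_iff _ _).2 ⟨hX i hi, hY i hi⟩) h

variable [PreservesFiniteLimits F]

theorem shortExact_map {S : ShortComplex A} (hS : S.ShortExact) (h1 : IsZero ((F.rightDerived 1).obj S.X₁)) :
    (S.map F).ShortExact := by
  have hex : (S.map F).Exact ∧ Mono (F.map S.f) :=
    ((F.preservesFiniteLimits_tfae.out 3 0 rfl rfl).1 ‹PreservesFiniteLimits F›) S hS
  haveI : Epi ((F.rightDerived 0).map S.g) :=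
    (RDerLib.exact₃ F (RDerLib.res hS) 0 1 rfl).epi_f (h1.eq_of_tgt _ _)
  have hη : F.map S.g = F.toRightDerivedZero.app S.X₂ ≫ (F.rightDerived 0).map S.g ≫ inv (F.toRightDerivedZero.app S.X₃) := by
    simp [← F.toRightDerivedZero.naturality_assoc]
  exact { exact := hex.1, mono_f := hex.2, epi_g := by show Epi (F.map S.g); rw [hη]; infer_instance }

theorem acyc_iff {S : ShortComplex A} (hS : S.ShortExact) (h1 : Acyc F S.X₁) : Acyc F S.X₂ ↔ Acyc F S.X₃ :=
  ⟨fun h2 i hi => isZero_quot F hS h2 hi (h1 _ i.succ_pos), fun h3 i hi =>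
    (RDerLib.exact₂ F (RDerLib.res hS) i).isZero_X₂ ((h1 i hi).eq_of_src _ _) ((h3 i hi).eq_of_tgt _ _)⟩

omit [HasInjectiveResolutions A] in
/-- the short exact sequences of an exact complex -/
theorem shortExact_cycles {ι : Type*} {c : ComplexShape ι} (K : HomologicalComplex A c) (j k : ι) (hjk : c.Rel j k)
    (h : K.ExactAt k) :
    (ShortComplex.mk (K.iCycles j) (K.liftCycles (K.d j k) (c.next k) rfl (K.d_comp_d _ _ _))
      (by rw [← cancel_mono (K.iCycles k)]; simp)).ShortExact := by
  refine @ShortComplex.ShortExact.mk _ _ _ _ ?_ (inferInstanceAs (Mono (K.iCycles j))) ?_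
  · rw [ShortComplex.exact_iff_exact_up_to_refinements]
    intro T x hx
    have hx' : x ≫ K.d j k = 0 := by
      have := hx =≫ K.iCycles k
      simpa using this
    exact ⟨T, 𝟙 T, inferInstance, K.liftCycles x k (c.next_eq' hjk) hx', by simp⟩
  · rw [epi_iff_surjective_up_to_refinements]
    intro T y
    obtain ⟨T', π, hπ, x, hx⟩ := ((K.exactAt_iff' j k (c.next k) (c.prev_eq' hjk) rfl).1 h).exact_up_to_refinements
      (y ≫ K.iCycles k) (by show (y ≫ K.iCycles k) ≫ K.d k (c.next k) = 0; simp)
    exact ⟨T', π, hπ, x, by rw [← cancel_mono (K.iCycles k)]; simpa using hx⟩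

variable {n : ℕ} (hn : ∀ X : A, IsZero ((F.rightDerived n).obj X))

include hn in
omit [PreservesFiniteLimits F] in
/-- the cycles of an exact complex of acyclic objects are acyclic -/
theorem acyc_cycles (K : CochainComplex A ℤ) (hK : K.Acyclic) (hX : ∀ k, Acyc F (K.X k)) (k : ℤ) :
    Acyc F (K.cycles k) := by
  have : ∀ (j : ℕ) (k : ℤ) (i : ℕ), 0 < i → n ≤ i + j → IsZero ((F.rightDerived i).obj (K.cycles k)) := by
    intro j
    induction j with
    | zero =>
      intro k i _ hi
      obtain ⟨m, rfl⟩ := Nat.exists_eq_add_of_le hi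
      simpa using isZero_above F hn m (K.cycles k)
    | succ j ih =>
      intro k i hi h
      exact isZero_quot F (shortExact_cycles K (k - 1) k (by simp) (hK k)) (hX _) hi
        (ih (k - 1) (i + 1) i.succ_pos (by omega))
  exact fun i hi => this n k i hi (by omega)

include hn in
/-- the functor preserves acyclicity of complexes of acyclic objects -/
theorem acyclic_map (K : CochainComplex A ℤ) (hK : K.Acyclic) (hX : ∀ k, Acyc F (K.X k)) :
    ((F.mapHomologicalComplex (ComplexShape.up ℤ)).obj K).Acyclic := by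
  intro k
  have h1 : (k - 1) + 1 = k := by omega
  rw [HomologicalComplex.exactAt_iff' _ (k - 1) k (k + 1) (by simp) (by simp),
    ShortComplex.exact_iff_exact_up_to_refinements]
  intro T x hx
  change T ⟶ F.obj (K.X k) at x
  change x ≫ F.map (K.d k (k + 1)) = 0 at hx
  have S1 := shortExact_map F (shortExact_cycles K k (k + 1) (by simp) (hK _)) (acyc_cycles F hn K hK hX k 1 Nat.one_pos)
  have S0 := shortExact_map F (shortExact_cycles K (k - 1) k (by simp) (hK _))
    (acyc_cycles F hn K hK hX (k - 1) 1 Nat.one_pos)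
  obtain ⟨T₁, π₁, hπ₁, y, hy⟩ := S1.exact.exact_up_to_refinements x (by
    show x ≫ F.map _ = 0
    have S2 := (shortExact_map F (shortExact_cycles K (k + 1) (k + 1 + 1) (by simp) (hK _))
      (acyc_cycles F hn K hK hX (k + 1) 1 Nat.one_pos)).mono_f
    rw [← cancel_mono (F.map (K.iCycles (k + 1)))]
    rw [Category.assoc]
    show x ≫ F.map (K.liftCycles (K.d k (k + 1)) ((ComplexShape.up ℤ).next (k + 1)) rfl (K.d_comp_d _ _ _)) ≫ F.map (K.iCycles (k + 1)) = 0 ≫ _
    rw [← F.map_comp, HomologicalComplex.liftCycles_i, hx, zero_comp])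
  haveI : Epi (F.map (K.liftCycles (K.d (k - 1) k) ((ComplexShape.up ℤ).next k) rfl (K.d_comp_d _ _ _))) := S0.epi_g
  obtain ⟨T₂, π₂, hπ₂, z, hz⟩ := surjective_up_to_refinements_of_epi
    (F.map (K.liftCycles (K.d (k - 1) k) ((ComplexShape.up ℤ).next k) rfl (K.d_comp_d _ _ _))) y
  refine ⟨T₂, π₂ ≫ π₁, epi_comp _ _, z, ?_⟩
  show (π₂ ≫ π₁) ≫ x = z ≫ F.map (K.d (k - 1) k)
  rw [Category.assoc, show π₁ ≫ x = y ≫ F.map (K.iCycles k) from hy, ← Category.assoc]
  refine (congrArg (· ≫ F.map (K.iCycles k)) hz).trans ((Category.assoc _ _ _).trans ?_)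
  exact congrArg (z ≫ ·) ((F.map_comp _ _).symm.trans (congrArg F.map (HomologicalComplex.liftCycles_i _ _ _ _ _)))

include hn in
/-- every complex has a resolution by acyclic objects -/
theorem exists_acyc_resolution (X : CochainComplex A ℤ) :
    ∃ (I : CochainComplex A ℤ) (f : X ⟶ I), QuasiIso f ∧ ∀ k : ℤ, Acyc F (I.X k) := by
  have h2 : ∀ S : ShortComplex A, S.ShortExact → Acyc F S.X₁ → (Acyc F S.X₂ ↔ Acyc F S.X₃) :=
    fun S hS h => acyc_iff F hS h
  have hiso : ∀ {U V : A}, (U ≅ V) → Acyc F U → Acyc F V :=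
    fun e h i hi => (h i hi).of_iso ((F.rightDerived i).mapIso e.symm)
  have hext : ∀ {U V W : A} (f : U ⟶ V) (g : V ⟶ W) (w : f ≫ g = 0),
      (ShortComplex.mk f g w).ShortExact → Acyc F U → Acyc F W → Acyc F V := fun f g w hS hU hW => (h2 _ hS hU).2 hW
  have hD : ∀ (m : ℕ) (Y : A), (∀ i : ℕ, 0 < i → IsZero ((F.rightDerived (i + m)).obj Y)) → PClassRes.D (Acyc F) m Y := by
    intro m
    induction m with
    | zero => exact fun Y h i hi => h i hi
    | succ m ih =>
      intro Y h S hS hY hS2
      subst hY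
      refine ih _ fun i hi => isZero_quot F hS hS2 (by omega) ?_
      have := h i hi
      rwa [show i + (m + 1) = i + m + 1 by omega] at this
  have key : ∀ (m : ℕ) (X : CochainComplex A ℤ), (∀ k, PClassRes.D (Acyc F) m (X.X k)) →
      ∃ (I : CochainComplex A ℤ) (f : X ⟶ I), QuasiIso f ∧ ∀ k : ℤ, Acyc F (I.X k) := by
    intro m
    induction m with
    | zero => exact fun X hX => ⟨X, 𝟙 X, inferInstance, hX⟩
    | succ m ih =>
      intro X hX
      obtain ⟨T, ι, hι, hT⟩ := PClassRes.exists_mono (P := Acyc F) (exists_mono_acyc F)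
        (fun {U V} hU hV => hext _ _ _ (ShortComplex.Splitting.ofHasBinaryBiproduct U V).shortExact hU hV) X
      let S : ShortComplex (CochainComplex A ℤ) := ShortComplex.mk ι (cokernel.π ι) (cokernel.condition ι)
      have hS : S.ShortExact := ShortComplex.ShortExact.mk' (ShortComplex.exact_cokernel ι) hι
        (inferInstanceAs (Epi (cokernel.π ι)))
      obtain ⟨J, g, hg, hJ⟩ := ih (cokernel ι) fun k =>
        hX k _ (hS.map_of_exact (HomologicalComplex.eval A (ComplexShape.up ℤ) k)) rfl (hT k)
      exact PClassRes.exists_cocone hext S hS hT g hJ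
  exact key n X fun k => hD n _ fun i hi => by
    rw [Nat.add_comm]; exact isZero_above F hn i _

variable [HasDerivedCategory.{w} A] [HasDerivedCategory.{w'} B]

/-- complexes of acyclic objects -/
def AcycCx : ObjectProperty (HomotopyCategory A (ComplexShape.up ℤ)) := fun K => ∀ k, Acyc F (K.as.X k)

include hn in
/-- complexes of acyclic objects compute the unbounded derived functor -/
theorem isDef_acyc : IsDef (DerivedCategory.Qh (C := A))
    (F.mapHomotopyCategory (ComplexShape.up ℤ) ⋙ DerivedCategory.Qh) (AcycCx F) := by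
  refine isDef_of_fractions _ (HomotopyCategory.quasiIso A (ComplexShape.up ℤ)) _ _ (fun X => ?_) (fun {I J} s hI hJ hs => ?_)
  · obtain ⟨K, f, hf, hK⟩ := exists_acyc_resolution F hn X.as
    exact ⟨(HomotopyCategory.quotient _ _).obj K, (HomotopyCategory.quotient _ _).map f, hK,
      (HomotopyCategory.quotient_map_mem_quasiIso_iff f).2 hf⟩
  · obtain ⟨φ, rfl⟩ := (HomotopyCategory.quotient A (ComplexShape.up ℤ)).map_surjective s
    rw [HomotopyCategory.quotient_map_mem_quasiIso_iff] at hs
    have hq : HomologicalComplex.quasiIso B (ComplexShape.up ℤ) ((F.mapHomologicalComplex _).map φ) := by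
      haveI : EnoughInjectives A := inferInstance
      rw [HomologicalComplex.mem_quasiIso_iff, DerPlus.quasiIso_iff_acyclic_mappingCone] at hs ⊢
      refine fun j => ((acyclic_map F hn _ hs fun k => ?_) j).of_iso (CochainComplex.mappingCone.mapHomologicalComplexIso φ F)
      intro i hi
      rw [IsZero.iff_id_eq_zero, ← (F.rightDerived i).map_id,
        ← CochainComplex.mappingCone.id_X φ k (k + 1) rfl, Functor.map_add, Functor.map_comp,
        Functor.map_comp, (hI (k + 1) i hi).eq_of_tgt ((F.rightDerived i).map _) 0,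
        (hJ k i hi).eq_of_tgt ((F.rightDerived i).map _) 0, zero_comp, zero_comp, add_zero]
    exact Localization.inverts DerivedCategory.Qh (HomotopyCategory.quasiIso B (ComplexShape.up ℤ)) _
      ((HomotopyCategory.quotient_map_mem_quasiIso_iff _).2 hq)

end Groth.Agent.AcycDef
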