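import Mathlib

/-!
Left derived functors computed by a class of objects (dual of `Deform`).
-/

set_option autoImplicit false

namespace Groth.Agent.AcycDef

open CategoryTheory Limits

variable {C D H : Type*} [Category* C] [Category* D] [Category* H]

/-- `P` computes the left derived functor of `F` along `L` -/
structure IsDefLeft (L : C ⥤ D) (F : C ⥤ H) (P : ObjectProperty C) : Prop where
  roof : ∀ {X I : C}, P I → ∀ g : L.obj I ⟶ L.obj X,
    ∃ (J : C) (f : J ⟶ X) (s : J ⟶ I), P J ∧ IsIso (L.map s) ∧ IsIso (F.map s) ∧ L.map s ≫ g = L.map f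
  wd : ∀ {X I : C} (f g : I ⟶ X), P I → L.map f = L.map g → F.map f = F.map g
  res : ∀ d : D, ∃ I, P I ∧ Nonempty (d ≅ L.obj I)

namespace IsDefLeft

variable {L : C ⥤ D} {F : C ⥤ H} {P : ObjectProperty C}

/-- the induced map -/
noncomputable def lift (h : IsDefLeft L F P) {X I : C} (hI : P I) (g : L.obj I ⟶ L.obj X) : F.obj I ⟶ F.obj X :=
  haveI := (h.roof hI g).choose_spec.choose_spec.choose_spec.2.2.1
  inv (F.map (h.roof hI g).choose_spec.choose_spec.choose) ≫ F.map (h.roof hI g).choose_spec.choose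

lemma roof_unique (h : IsDefLeft L F P) {X I : C} (g : L.obj I ⟶ L.obj X) {J J' : C} (f : J ⟶ X) (s : J ⟶ I)
    (f' : J' ⟶ X) (s' : J' ⟶ I) (hJ' : P J') [IsIso (L.map s)] [IsIso (F.map s)] [IsIso (F.map s')]
    (e : L.map s ≫ g = L.map f) (e' : L.map s' ≫ g = L.map f') :
    inv (F.map s') ≫ F.map f' = inv (F.map s) ≫ F.map f := by
  obtain ⟨K, a, b, hK, hb1, hb2, eab⟩ := h.roof hJ' (L.map s' ≫ inv (L.map s))
  have e1 : F.map a ≫ F.map s = F.map b ≫ F.map s' := by
    rw [← F.map_comp, ← F.map_comp]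
    refine h.wd _ _ hK ?_
    rw [L.map_comp, L.map_comp, ← eab]
    simp
  have e2 : F.map a ≫ F.map f = F.map b ≫ F.map f' := by
    rw [← F.map_comp, ← F.map_comp]
    refine h.wd _ _ hK ?_
    rw [L.map_comp, L.map_comp, ← eab, ← e, ← e']
    simp
  haveI : IsIso (F.map a ≫ F.map s) := by rw [e1]; infer_instance
  haveI : IsIso (F.map a) := IsIso.of_isIso_comp_right _ (F.map s)
  calc inv (F.map s') ≫ F.map f' = inv (F.map b ≫ F.map s') ≫ F.map b ≫ F.map f' := by simp
    _ = inv (F.map a ≫ F.map s) ≫ F.map a ≫ F.map f := by simp only [e1, e2]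
    _ = inv (F.map s) ≫ F.map f := by simp

lemma lift_eq (h : IsDefLeft L F P) {X I : C} (hI : P I) (g : L.obj I ⟶ L.obj X) {J : C} (f : J ⟶ X) (s : J ⟶ I)
    [IsIso (L.map s)] [IsIso (F.map s)] (e : L.map s ≫ g = L.map f) :
    h.lift hI g = inv (F.map s) ≫ F.map f := by
  haveI := (h.roof hI g).choose_spec.choose_spec.choose_spec.2.2.1
  exact h.roof_unique g f s _ _ (h.roof hI g).choose_spec.choose_spec.choose_spec.1 e
    (h.roof hI g).choose_spec.choose_spec.choose_spec.2.2.2

lemma lift_map (h : IsDefLeft L F P) {X I : C} (hI : P I) (f : I ⟶ X) : h.lift hI (L.map f) = F.map f := by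
  haveI : IsIso (L.map (𝟙 I)) := by rw [L.map_id]; infer_instance
  haveI : IsIso (F.map (𝟙 I)) := by rw [F.map_id]; infer_instance
  rw [h.lift_eq hI _ f (𝟙 I) (by simp)]
  simp

lemma lift_comp (h : IsDefLeft L F P) {X Y I : C} (hI : P I) (φ : X ⟶ Y) (g : L.obj I ⟶ L.obj X) :
    h.lift hI (g ≫ L.map φ) = h.lift hI g ≫ F.map φ := by
  obtain ⟨J, f, s, hJ, hs1, hs2, e⟩ := h.roof hI g
  rw [h.lift_eq hI g f s e, h.lift_eq hI (g ≫ L.map φ) (f ≫ φ) s (by rw [← Category.assoc, e, L.map_comp]),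
    F.map_comp, Category.assoc]

/-- the limit cone at `L.obj I` -/
noncomputable def cone (h : IsDefLeft L F P) {I : C} (hI : P I) :
    Cone (StructuredArrow.proj (L.obj I) L ⋙ F) where
  pt := F.obj I
  π :=
    { app := fun j => h.lift hI j.hom
      naturality := fun j j' φ => by
        show 𝟙 _ ≫ h.lift hI j'.hom = h.lift hI j.hom ≫ F.map φ.right
        rw [Category.id_comp, ← h.lift_comp hI, StructuredArrow.w φ] }

lemma cone_π_self (h : IsDefLeft L F P) {I : C} (hI : P I) :
    (h.cone hI).π.app (StructuredArrow.mk (𝟙 (L.obj I))) = 𝟙 (F.obj I) := by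
  show h.lift hI (𝟙 (L.obj I)) = 𝟙 (F.obj I)
  rw [← L.map_id, h.lift_map, F.map_id]

/-- the cone is a limit -/
noncomputable def isLimitCone (h : IsDefLeft L F P) {I : C} (hI : P I) : IsLimit (h.cone hI) where
  lift c := c.π.app (StructuredArrow.mk (𝟙 (L.obj I)))
  fac c j := by
    obtain ⟨J, f, s, hJ, hs1, hs2, e⟩ := h.roof hI j.hom
    let t : StructuredArrow (L.obj I) L := StructuredArrow.mk (inv (L.map s))
    have n1 := c.π.naturality (StructuredArrow.homMk f (by simp [t, ← e]) : t ⟶ j)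
    have n2 := c.π.naturality (StructuredArrow.homMk s (by simp [t]) : t ⟶ StructuredArrow.mk (𝟙 (L.obj I)))
    have m1 : c.π.app j = c.π.app t ≫ F.map f := (Category.id_comp _).symm.trans n1
    have m2 : c.π.app (StructuredArrow.mk (𝟙 (L.obj I))) = c.π.app t ≫ F.map s :=
      (Category.id_comp _).symm.trans n2
    refine Eq.trans (congrArg (c.π.app (StructuredArrow.mk (𝟙 (L.obj I))) ≫ ·) (h.lift_eq hI j.hom f s e)) ?_
    refine Eq.trans ?_ m1.symm
    refine (congrArg (fun z => z ≫ @inv _ _ _ _ (F.map s) hs2 ≫ F.map f) m2).trans ?_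
    exact (Category.assoc _ _ _).trans
      (congrArg (c.π.app t ≫ ·) (@IsIso.hom_inv_id_assoc _ _ _ _ (F.map s) hs2 _ _))
  uniq c m hm := by
    have := hm (StructuredArrow.mk (𝟙 (L.obj I)))
    rw [cone_π_self] at this
    exact ((Category.comp_id m).symm.trans this)

lemma hasPointwiseRightKanExtension (h : IsDefLeft L F P) : L.HasPointwiseRightKanExtension F := fun d => by
  obtain ⟨I, hI, ⟨e⟩⟩ := h.res d
  rw [Functor.hasPointwiseRightKanExtensionAt_iff_of_iso L F e]
  exact ⟨_, h.isLimitCone hI⟩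

variable (W : MorphismProperty C) [L.IsLocalization W]

lemma hasPointwiseLeftDerivedFunctor (h : IsDefLeft L F P) : F.HasPointwiseLeftDerivedFunctor W := fun X => by
  rw [F.hasPointwiseLeftDerivedFunctorAt_iff L W]
  exact h.hasPointwiseRightKanExtension _

lemma hasLeftDerivedFunctor (h : IsDefLeft L F P) : F.HasLeftDerivedFunctor W := by
  have := h.hasPointwiseLeftDerivedFunctor W
  infer_instance

lemma isIso_app (h : IsDefLeft L F P) (LF : D ⥤ H) (α : L ⋙ LF ⟶ F)
    [LF.IsLeftDerivedFunctor α W] {I : C} (hI : P I) : IsIso (α.app I) := by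
  have := h.hasPointwiseLeftDerivedFunctor W
  let hE := Functor.isPointwiseRightKanExtensionOfHasPointwiseLeftDerivedFunctor LF α W (L.obj I)
  have h₁ := hE.fac (h.cone hI) (StructuredArrow.mk (𝟙 (L.obj I)))
  rw [cone_π_self] at h₁
  refine ⟨hE.lift (h.cone hI), IsLimit.hom_ext hE fun j => ?_, ?_⟩
  · have h₂ := IsLimit.fac hE (h.cone hI) j
    have h₃ : α.app I ≫ h.lift hI j.hom = LF.map j.hom ≫ α.app j.right := by
      obtain ⟨J, f, s, hJ, hs1, hs2, e⟩ := h.roof hI j.hom
      rw [h.lift_eq hI j.hom f s e, ← cancel_epi (LF.map (L.map s)), ← Category.assoc (LF.map (L.map s)) (LF.map j.hom),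
        ← LF.map_comp, e]
      have n1 := α.naturality f
      have n2 := α.naturality s
      simp only [Functor.comp_map] at n1 n2
      rw [n1, reassoc_of% n2, IsIso.hom_inv_id_assoc]
    refine ((Category.assoc _ _ _).trans ?_).trans (Category.id_comp _).symm
    exact (congrArg (α.app I ≫ ·) h₂).trans h₃
  · simpa using! h₁

lemma isLeftDerivedFunctor (h : IsDefLeft L F P) (LF : D ⥤ H) (α : L ⋙ LF ⟶ F)
    (hα : ∀ I, P I → IsIso (α.app I)) : LF.IsLeftDerivedFunctor α W where
  isRightKanExtension := by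
    suffices hE : (Functor.RightExtension.mk LF α).IsPointwiseRightKanExtension from hE.isRightKanExtension
    intro d
    let I := (h.res d).choose
    have hI : P I := (h.res d).choose_spec.1
    let e : d ≅ L.obj I := (h.res d).choose_spec.2.some
    refine (Functor.RightExtension.isPointwiseRightKanExtensionAtEquivOfIso' _ e.symm) ?_
    have := hα I hI
    refine (h.isLimitCone hI).ofIsoLimit
      (Cone.ext (@asIso _ _ _ _ (α.app I) this).symm fun j => ?_)
    show h.lift hI j.hom = inv (α.app I) ≫ LF.map j.hom ≫ α.app j.right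
    rw [IsIso.eq_inv_comp]
    obtain ⟨J, f, s, hJ, hs1, hs2, e'⟩ := h.roof hI j.hom
    rw [h.lift_eq hI j.hom f s e', ← cancel_epi (LF.map (L.map s)), ← Category.assoc (LF.map (L.map s)) (LF.map j.hom),
      ← LF.map_comp, e']
    have n1 := α.naturality f
    have n2 := α.naturality s
    simp only [Functor.comp_map] at n1 n2
    rw [n1, reassoc_of% n2, IsIso.hom_inv_id_assoc]

end IsDefLeft

end Groth.Agent.AcycDef
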