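import Groth.Agent.AcycDef.Acyclic
import Groth.Agent.AcycDef.Left
import Mathlib

/-!
# Resolutions by complexes of objects whose derived functors live in one degree
-/

set_option autoImplicit false
set_option linter.style.haveILetI false
set_option linter.unusedSectionVars false
set_option backward.isDefEq.respectTransparency false
set_option backward.isDefEq.respectTransparency.types false

universe w w' v v' u u'

open CategoryTheory Limits

namespace Groth.Agent.AcycDef

variable {A : Type u} [Category.{v} A] [Abelian A]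

/-- a cocone over a short exact sequence -/
theorem exists_cone (S : ShortComplex (CochainComplex A ℤ)) (hS : S.ShortExact)
    {J : CochainComplex A ℤ} (g : J ⟶ S.X₁) [QuasiIso g] :
    ∃ f : CochainComplex.mappingCone (g ≫ S.f) ⟶ S.X₃, QuasiIso f := by
  letI : HasDerivedCategory A := HasDerivedCategory.standard A
  let m := CochainComplex.mappingCone.map (g ≫ S.f) S.f g (𝟙 S.X₂) (by simp)
  refine ⟨m ≫ CochainComplex.mappingCone.descShortComplex S, ?_⟩
  haveI := CochainComplex.mappingCone.quasiIso_descShortComplex hS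
  haveI : QuasiIso m := by
    let T := DerivedCategory.Q.mapTriangle.map
      (CochainComplex.mappingCone.triangleMap (g ≫ S.f) S.f g (𝟙 S.X₂) (by simp))
    have h1 : IsIso T.hom₁ := (inferInstance : IsIso (DerivedCategory.Q.map g))
    have h2 : IsIso T.hom₂ := (inferInstance : IsIso (DerivedCategory.Q.map (𝟙 S.X₂)))
    have h3 : IsIso T.hom₃ := Pretriangulated.isIso₃_of_isIso₁₂ T
      (DerivedCategory.mappingCone_triangle_distinguished _) (DerivedCategory.mappingCone_triangle_distinguished _) h1 h2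
    exact (DerivedCategory.isIso_Q_map_iff_quasiIso _ _).1 h3
  infer_instance

/-- an epimorphism from a complex with terms in a class -/
theorem exists_epi (P : ObjectProperty A) (hP : ∀ X : A, ∃ (Y : A) (p : Y ⟶ X), P Y ∧ Epi p)
    (hadd : ∀ {X Y : A}, P X → P Y → P (X ⊞ Y)) (X : CochainComplex A ℤ) :
    ∃ (T : CochainComplex A ℤ) (π : T ⟶ X), Epi π ∧ ∀ k, P (T.X k) := by
  choose Y p hY hp using fun k : ℤ => hP (X.X k)
  let T : CochainComplex A ℤ := CochainComplex.of (fun k => Y k ⊞ Y (k - 1))
    (fun k => biprod.fst ≫ eqToHom (show Y k = Y (k + 1 - 1) by rw [add_sub_cancel_right]) ≫ biprod.inr)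
    (fun k => by simp)
  let f : ∀ k, Y k ⊞ Y (k - 1) ⟶ X.X k := fun k => biprod.desc (p k) (p (k - 1) ≫ X.d (k - 1) k)
  have key : ∀ a b : ℤ, ∀ h : a = b, eqToHom (congrArg Y h) ≫ p b ≫ X.d b (a + 1) = p a ≫ X.d a (a + 1) := by
    intro a b h; subst h; simp
  have hf : ∀ k, f k ≫ X.d k (k + 1) =
      (biprod.fst ≫ eqToHom (show Y k = Y (k + 1 - 1) by rw [add_sub_cancel_right]) ≫ biprod.inr) ≫ f (k + 1) := by
    intro k
    apply biprod.hom_ext'
    · simpa [f] using (key k (k + 1 - 1) (by omega)).symm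
    · simp [f]
  let π : T ⟶ X :=
    { f := f
      comm' := fun a b hab => by
        obtain rfl : a + 1 = b := hab
        have e : T.d a (a + 1) = biprod.fst ≫ eqToHom (show Y a = Y (a + 1 - 1) by rw [add_sub_cancel_right]) ≫
            biprod.inr := by
          simp [T, CochainComplex.of, CochainComplex.of.d]
        rw [e]
        exact hf a }
  haveI : ∀ k, Epi (π.f k) := fun k => by
    haveI := hp k
    haveI : Epi (biprod.inl ≫ f k) := by
      simp only [f, biprod.inl_desc]
      infer_instance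
    exact epi_of_epi biprod.inl (f k)
  exact ⟨T, π, HomologicalComplex.epi_of_epi_f π (fun k => inferInstance), fun k => hadd (hY k) (hY (k - 1))⟩

variable [HasInjectiveResolutions A] {B : Type u'} [Category.{v'} B] [Abelian B] (F : A ⥤ B) [F.Additive]

/-- objects with derived functors only in degree `n` -/
def PCl (n : ℕ) : ObjectProperty A := fun X => ∀ i : ℕ, i ≠ n → IsZero ((F.rightDerived i).obj X)

theorem pcl_biprod {n : ℕ} {X Y : A} (hX : PCl F n X) (hY : PCl F n Y) : PCl F n (X ⊞ Y) := fun i hi => by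
  haveI := preservesBinaryBiproducts_of_preservesBiproducts (F.rightDerived i)
  exact IsZero.of_iso ((biprod_isZero_iff _ _).2 ⟨hX i hi, hY i hi⟩) ((F.rightDerived i).mapBiprod X Y)

theorem pcl_mappingCone {n : ℕ} {K L : CochainComplex A ℤ} (φ : K ⟶ L) (hK : ∀ k, PCl F n (K.X k))
    (hL : ∀ k, PCl F n (L.X k)) (k : ℤ) : PCl F n ((CochainComplex.mappingCone φ).X k) := fun i hi => by
  rw [IsZero.iff_id_eq_zero, ← (F.rightDerived i).map_id,
    ← CochainComplex.mappingCone.id_X φ k (k + 1) rfl, Functor.map_add, Functor.map_comp,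
    Functor.map_comp, (hK (k + 1) i hi).eq_of_tgt ((F.rightDerived i).map _) 0,
    (hL k i hi).eq_of_tgt ((F.rightDerived i).map _) 0, zero_comp, zero_comp, add_zero]

variable [PreservesFiniteLimits F] {n : ℕ}

theorem mono_zero {S : ShortComplex A} (hS : S.ShortExact) : Mono ((F.rightDerived 0).map S.f) := by
  have hex : (S.map F).Exact ∧ Mono (F.map S.f) :=
    ((F.preservesFiniteLimits_tfae.out 3 0 rfl rfl).1 ‹PreservesFiniteLimits F›) S hS
  haveI := hex.2
  have e : (F.rightDerived 0).map S.f = inv (F.toRightDerivedZero.app S.X₁) ≫ F.map S.f ≫ F.toRightDerivedZero.app S.X₂ := by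
    simp
  rw [e]
  infer_instance

variable (hdim : ∀ (X : A) (i : ℕ), n < i → IsZero ((F.rightDerived i).obj X))

include hdim in
/-- the kernel of an epimorphism from an object of the class gains one degree of vanishing -/
theorem isZero_ker {S : ShortComplex A} (hS : S.ShortExact) (h2 : PCl F n S.X₂) {j : ℕ}
    (h3 : ∀ i, i < j → i ≠ n → IsZero ((F.rightDerived i).obj S.X₃)) (i : ℕ) (hi : i < j + 1) (hin : i ≠ n) :
    IsZero ((F.rightDerived i).obj S.X₁) := by
  rcases lt_or_gt_of_ne hin with h | h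
  · rcases i with _ | i
    · haveI := mono_zero F hS
      exact IsZero.of_mono ((F.rightDerived 0).map S.f) (h2 0 hin)
    · exact isZero_sub F hS (h3 i (by omega) (by omega)) (h2 _ hin)
  · exact hdim _ _ h

include hdim in
/-- the cycles of an exact complex in the class are in the class -/
theorem pcl_cycles (K : CochainComplex A ℤ) (hK : K.Acyclic) (hX : ∀ k, PCl F n (K.X k)) (k : ℤ) :
    PCl F n (K.cycles k) := by
  have : ∀ (j : ℕ) (k : ℤ), ∀ i, i < j → i ≠ n → IsZero ((F.rightDerived i).obj (K.cycles k)) := by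
    intro j
    induction j with
    | zero => exact fun _ i hi => absurd hi (by omega)
    | succ j ih =>
      exact fun k => isZero_ker F hdim (shortExact_cycles K k (k + 1) (by simp) (hK _)) (hX k) (ih (k + 1))
  exact fun i hi => this (i + 1) k i (by omega) hi

include hdim in
/-- the top derived functor is exact on the class -/
theorem shortExact_top {S : ShortComplex A} (hS : S.ShortExact) (h3 : PCl F n S.X₃) [(F.rightDerived n).Additive] :
    (S.map (F.rightDerived n)).ShortExact := by
  refine ShortComplex.ShortExact.mk' (RDerLib.exact₂ F (RDerLib.res hS) n) ?_ ?_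
  · rcases n with _ | m
    · exact mono_zero F hS
    · exact (RDerLib.exact₁ F (RDerLib.res hS) m (m + 1) rfl).mono_g ((h3 m (by omega)).eq_of_src _ _)
  · exact (RDerLib.exact₃ F (RDerLib.res hS) n (n + 1) rfl).epi_f ((hdim _ _ n.lt_succ_self).eq_of_tgt _ _)

/-- a functor exact on the cycle sequences preserves acyclicity -/
theorem acyclic_of_cycles (G : A ⥤ B) [G.Additive] (K : CochainComplex A ℤ) (hK : K.Acyclic)
    (hG : ∀ k : ℤ, ((ShortComplex.mk (K.iCycles k) (K.liftCycles (K.d k (k + 1)) ((ComplexShape.up ℤ).next (k + 1)) rfl (K.d_comp_d _ _ _))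
      (by rw [← cancel_mono (K.iCycles (k + 1))]; simp)).map G).ShortExact) :
    ((G.mapHomologicalComplex (ComplexShape.up ℤ)).obj K).Acyclic := by
  intro k
  obtain ⟨l, rfl⟩ : ∃ l, k = l + 1 := ⟨k - 1, by omega⟩
  rw [HomologicalComplex.exactAt_iff' _ l (l + 1) (l + 1 + 1) (by simp) (by simp),
    ShortComplex.exact_iff_exact_up_to_refinements]
  intro T x hx
  change T ⟶ G.obj (K.X (l + 1)) at x
  change x ≫ G.map (K.d (l + 1) (l + 1 + 1)) = 0 at hx
  haveI : Mono (G.map (K.iCycles (l + 1 + 1))) := (hG (l + 1 + 1)).mono_f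
  obtain ⟨T₁, π₁, hπ₁, y, hy⟩ := (hG (l + 1)).exact.exact_up_to_refinements x (by
    show x ≫ G.map _ = 0
    rw [← cancel_mono (G.map (K.iCycles (l + 1 + 1)))]
    rw [Category.assoc]
    show x ≫ G.map (K.liftCycles (K.d (l + 1) (l + 1 + 1)) ((ComplexShape.up ℤ).next (l + 1 + 1)) rfl (K.d_comp_d _ _ _)) ≫ G.map (K.iCycles (l + 1 + 1)) = 0 ≫ _
    rw [← G.map_comp, HomologicalComplex.liftCycles_i, hx, zero_comp])
  haveI : Epi (G.map (K.liftCycles (K.d l (l + 1)) ((ComplexShape.up ℤ).next (l + 1)) rfl (K.d_comp_d _ _ _))) :=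
    (hG l).epi_g
  obtain ⟨T₂, π₂, hπ₂, z, hz⟩ := surjective_up_to_refinements_of_epi
    (G.map (K.liftCycles (K.d l (l + 1)) ((ComplexShape.up ℤ).next (l + 1)) rfl (K.d_comp_d _ _ _))) y
  refine ⟨T₂, π₂ ≫ π₁, epi_comp _ _, z, ?_⟩
  show (π₂ ≫ π₁) ≫ x = z ≫ G.map (K.d l (l + 1))
  rw [Category.assoc, show π₁ ≫ x = y ≫ G.map (K.iCycles (l + 1)) from hy, ← Category.assoc]
  refine (congrArg (· ≫ G.map (K.iCycles (l + 1))) hz).trans ((Category.assoc _ _ _).trans ?_)
  exact congrArg (z ≫ ·) ((G.map_comp _ _).symm.trans (congrArg G.map (HomologicalComplex.liftCycles_i _ _ _ _ _)))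

variable [(F.rightDerived n).Additive]

include hdim in
theorem acyclic_top (K : CochainComplex A ℤ) (hK : K.Acyclic) (hX : ∀ k, PCl F n (K.X k)) :
    (((F.rightDerived n).mapHomologicalComplex (ComplexShape.up ℤ)).obj K).Acyclic :=
  acyclic_of_cycles _ K hK fun k =>
    shortExact_top F hdim (shortExact_cycles K k (k + 1) (by simp) (hK _)) (pcl_cycles F hdim K hK hX (k + 1))

variable (hP : ∀ X : A, ∃ (Y : A) (p : Y ⟶ X), Epi p ∧ PCl F n Y)

include hdim hP in
/-- every complex has a resolution by a complex in the class -/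
theorem exists_pcl_resolution (X : CochainComplex A ℤ) :
    ∃ (J : CochainComplex A ℤ) (f : J ⟶ X), QuasiIso f ∧ ∀ k : ℤ, PCl F n (J.X k) := by
  have key : ∀ (m : ℕ) (X : CochainComplex A ℤ),
      (∀ k i, i + m < n → IsZero ((F.rightDerived i).obj (X.X k))) →
      ∃ (J : CochainComplex A ℤ) (f : J ⟶ X), QuasiIso f ∧ ∀ k : ℤ, PCl F n (J.X k) := by
    intro m
    induction m with
    | zero =>
      refine fun X hX => ⟨X, 𝟙 X, inferInstance, fun k i hi => ?_⟩
      rcases lt_or_gt_of_ne hi with h | h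
      · exact hX k i (by omega)
      · exact hdim _ _ h
    | succ m ih =>
      intro X hX
      obtain ⟨T, π, hπ, hT⟩ := exists_epi (PCl F n)
        (fun Y => (hP Y).elim fun Z ⟨p, h1, h2⟩ => ⟨Z, p, h2, h1⟩) (fun h1 h2 => pcl_biprod F h1 h2) X
      let S : ShortComplex (CochainComplex A ℤ) := ShortComplex.mk (kernel.ι π) π (kernel.condition π)
      have hS : S.ShortExact := ShortComplex.ShortExact.mk' (ShortComplex.exact_kernel π)
        (inferInstanceAs (Mono (kernel.ι π))) hπ
      obtain ⟨J, g, hg, hJ⟩ := ih (kernel π) fun k i hi =>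
        isZero_ker F hdim (hS.map_of_exact (HomologicalComplex.eval A (ComplexShape.up ℤ) k)) (hT k)
          (j := n - (m + 1)) (fun i' hi' _ => hX k i' (by omega)) i (by omega) (by omega)
      haveI := hg
      obtain ⟨f, hf⟩ := exists_cone S hS g
      exact ⟨_, f, hf, pcl_mappingCone F _ hJ hT⟩
  exact key n X fun k i hi => absurd hi (by omega)

variable [HasDerivedCategory.{w} A] [HasDerivedCategory.{w'} B]

/-- complexes in the class -/
def PClCx (n : ℕ) : ObjectProperty (CochainComplex A ℤ) := fun K => ∀ k, PCl F n (K.X k)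

include hdim hP in
/-- the class computes the left derived functor of the top derived functor -/
theorem isDefLeft_pcl : IsDefLeft (DerivedCategory.Q (C := A))
    ((F.rightDerived n).mapHomologicalComplex (ComplexShape.up ℤ) ⋙ DerivedCategory.Q) (PClCx F n) := by
  have inv : ∀ {J I : CochainComplex A ℤ} (t : J ⟶ I), PClCx F n J → PClCx F n I → QuasiIso t →
      IsIso (((F.rightDerived n).mapHomologicalComplex (ComplexShape.up ℤ) ⋙ DerivedCategory.Q).map t) := by
    intro J I t hJ hI ht
    rw [DerPlus.quasiIso_iff_acyclic_mappingCone] at ht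
    have hc := acyclic_top F hdim _ ht (pcl_mappingCone F t hJ hI)
    have : QuasiIso (((F.rightDerived n).mapHomologicalComplex (ComplexShape.up ℤ)).map t) := by
      rw [DerPlus.quasiIso_iff_acyclic_mappingCone]
      exact fun j => (hc j).of_iso (CochainComplex.mappingCone.mapHomologicalComplexIso t (F.rightDerived n))
    exact (DerivedCategory.isIso_Q_map_iff_quasiIso _ _).2 this
  refine ⟨fun {X I} hI g => ?_, fun {X I} f g hI e => ?_, fun d => ?_⟩
  · obtain ⟨X', s, hs, f, rfl⟩ := DerivedCategory.right_fac g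
    obtain ⟨J, r, hr, hJ⟩ := exists_pcl_resolution F hdim hP X'
    haveI : QuasiIso s := (DerivedCategory.isIso_Q_map_iff_quasiIso _ _).1 hs
    refine ⟨J, r ≫ f, r ≫ s, hJ, inferInstance, inv (r ≫ s) hJ hI inferInstance, ?_⟩
    simp
  · have e' : DerivedCategory.Qh.map ((HomotopyCategory.quotient A (ComplexShape.up ℤ)).map f) =
        DerivedCategory.Qh.map ((HomotopyCategory.quotient A (ComplexShape.up ℤ)).map g) := by
      have h := fun (φ : I ⟶ X) => (DerivedCategory.quotientCompQhIso A).hom.naturality φ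
      have hf := h f
      have hg := h g
      simp only [Functor.comp_map] at hf hg
      rw [e, ← hg, cancel_mono] at hf
      exact hf
    obtain ⟨Z, s, hs, es⟩ :=
      (MorphismProperty.map_eq_iff_precomp DerivedCategory.Qh (HomotopyCategory.quasiIso A (ComplexShape.up ℤ)) _ _).1 e'
    obtain ⟨Z, rfl⟩ := HomotopyCategory.quotient_obj_surjective Z
    obtain ⟨s, rfl⟩ := (HomotopyCategory.quotient _ _).map_surjective s
    rw [HomotopyCategory.quotient_map_mem_quasiIso_iff] at hs
    haveI : QuasiIso s := hs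
    obtain ⟨J, r, hr, hJ⟩ := exists_pcl_resolution F hdim hP Z
    haveI := inv (r ≫ s) hJ hI inferInstance
    rw [← cancel_epi (((F.rightDerived n).mapHomologicalComplex (ComplexShape.up ℤ) ⋙ DerivedCategory.Q).map (r ≫ s)),
      ← Functor.map_comp, ← Functor.map_comp]
    rw [← Functor.map_comp, ← Functor.map_comp] at es
    refine DerivedCategory.Q_map_eq_of_homotopy (C := B) ((F.rightDerived n).mapHomotopy
      (HomotopyCategory.homotopyOfEq _ _ ?_))
    rw [Category.assoc, Category.assoc, Functor.map_comp, es, ← Functor.map_comp]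
  · obtain ⟨X, ⟨e⟩⟩ : ∃ X, Nonempty (DerivedCategory.Q.obj X ≅ d) :=
      ⟨_, ⟨DerivedCategory.Q.objObjPreimageIso d⟩⟩
    obtain ⟨J, r, hr, hJ⟩ := exists_pcl_resolution F hdim hP X
    exact ⟨J, hJ, ⟨e.symm ≪≫ (asIso (DerivedCategory.Q.map r)).symm⟩⟩

end Groth.Agent.AcycDef
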