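import Groth.Agent.AcycDef.Cosyz
import Groth.Agent.AcycDef.PRes
import Mathlib

/-!
# The derived functor as a shifted left derived functor of the top derived functor
-/

set_option autoImplicit false
set_option linter.style.haveILetI false
set_option linter.unusedSectionVars false
set_option backward.isDefEq.respectTransparency false
set_option backward.isDefEq.respectTransparency.types false

universe w w' v v' u u'

open CategoryTheory Limits Pretriangulated

namespace Groth.Agent.AcycDef

variable {A : Type u} [Category.{v} A] [Abelian A] [EnoughInjectives A]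
  {B : Type u'} [Category.{v'} B] [Abelian B] (F : A ⥤ B) [F.Additive]
  {K K' : CochainComplex A ℤ} (I : InjectiveResolution K) (I' : InjectiveResolution K')

/-- the short exact sequence of cosyzygies in one degree -/
noncomputable abbrev sesM (i : ℕ) (m : ℤ) : ShortComplex A :=
  (sesZ I i).map (HomologicalComplex.eval A (ComplexShape.up ℤ) m)

theorem sesM_shortExact (i : ℕ) (m : ℤ) : (sesM I i m).ShortExact :=
  (sesZ_shortExact I i).map_of_exact _

theorem injective_sesM (i : ℕ) (m : ℤ) : Injective (sesM I i m).X₂ :=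
  haveI := I.injective i
  injective_term (I.cocomplex.X i) m

/-- the connecting morphism -/
noncomputable abbrev dlt {S : ShortComplex A} (hS : S.ShortExact) (a b : ℕ) (h : a + 1 = b) :
    (F.rightDerived a).obj S.X₃ ⟶ (F.rightDerived b).obj S.X₁ :=
  (RDerLib.derivedLES (F := F)).δ S hS a b h

/-- dimension shifting along cosyzygies -/
noncomputable def tt (m : ℤ) : ∀ (i j N : ℕ), i + j = N →
    ((F.rightDerived j).obj ((I.cocomplex.cycles i).X m) ⟶ (F.rightDerived N).obj (K.X m))
  | 0, j, N, h => (F.rightDerived j).map ((inv (toZero I)).f m) ≫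
      eqToHom (congrArg (fun p => (F.rightDerived p).obj (K.X m)) ((zero_add j).symm.trans h))
  | i + 1, j, N, h => dlt F (sesM_shortExact I i m) j (j + 1) rfl ≫ tt m i (j + 1) N (by omega)

/-- morphisms in one degree -/
noncomputable def sesMd (i : ℕ) (m m' : ℤ) : sesM I i m ⟶ sesM I i m' where
  τ₁ := (sesZ I i).X₁.d m m'
  τ₂ := (sesZ I i).X₂.d m m'
  τ₃ := (sesZ I i).X₃.d m m'
  comm₁₂ := ((sesZ I i).f.comm m m').symm
  comm₂₃ := ((sesZ I i).g.comm m m').symm

lemma tt_d (m m' : ℤ) : ∀ (i j N : ℕ) (h : i + j = N),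
    (F.rightDerived j).map ((I.cocomplex.cycles i).d m m') ≫ tt F I m' i j N h =
      tt F I m i j N h ≫ (F.rightDerived N).map (K.d m m') := by
  intro i
  induction i with
  | zero =>
    intro j N h
    obtain rfl : j = N := by omega
    simp only [tt, eqToHom_refl, Category.comp_id, ← Functor.map_comp]
    congr 1
    exact ((inv (toZero I)).comm m m').symm
  | succ i ih =>
    intro j N h
    simp only [tt, Category.assoc]
    rw [← ih (j + 1) N (by omega), ← Category.assoc, ← Category.assoc]
    congr 1
    exact (RDerLib.derivedLES (F := F)).δ_natural (sesM_shortExact I i m) (sesM_shortExact I i m') (sesMd I i m m') j (j + 1) rfl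

variable {I I'}

lemma tt_naturality {f : K ⟶ K'} {φ : I.cocomplex ⟶ I'.cocomplex}
    (hφ : RDerLib.ι₀ I ≫ φ.f 0 = f ≫ RDerLib.ι₀ I') (m : ℤ) : ∀ (i j N : ℕ) (h : i + j = N),
    (F.rightDerived j).map ((HomologicalComplex.cyclesMap φ i).f m) ≫ tt F I' m i j N h =
      tt F I m i j N h ≫ (F.rightDerived N).map (f.f m) := by
  intro i
  induction i with
  | zero =>
    intro j N h
    obtain rfl : j = N := by omega
    simp only [tt, eqToHom_refl, Category.comp_id, ← Functor.map_comp, ← HomologicalComplex.comp_f]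
    congr 2
    rw [IsIso.eq_inv_comp, ← Category.assoc, toZero_naturality hφ]
    simp
  | succ i ih =>
    intro j N h
    simp only [tt, Category.assoc]
    rw [← ih (j + 1) N (by omega), ← Category.assoc, ← Category.assoc]
    congr 1
    exact (RDerLib.derivedLES (F := F)).δ_natural (sesM_shortExact I i m) (sesM_shortExact I' i m)
      ((HomologicalComplex.eval A (ComplexShape.up ℤ) m).mapShortComplex.map (sesZMap φ i)) j (j + 1) rfl

variable (I I')

lemma isZero_mid (i : ℕ) (m : ℤ) {j : ℕ} (hj : 0 < j) : IsZero ((F.rightDerived j).obj (sesM I i m).X₂) :=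
  haveI := injective_sesM I i m
  acyc_injective F _ j hj

lemma epi_dlt (i : ℕ) (m : ℤ) (j : ℕ) : Epi (dlt F (sesM_shortExact I i m) j (j + 1) rfl) :=
  ((RDerLib.derivedLES (F := F)).exact₁ _ (sesM_shortExact I i m) j (j + 1) rfl).epi_f
    ((isZero_mid F I i m j.succ_pos).eq_of_tgt _ _)

lemma isIso_dlt (i : ℕ) (m : ℤ) {j : ℕ} (hj : 0 < j) : IsIso (dlt F (sesM_shortExact I i m) j (j + 1) rfl) := by
  haveI := epi_dlt F I i m j
  haveI : Mono (dlt F (sesM_shortExact I i m) j (j + 1) rfl) :=
    ((RDerLib.derivedLES (F := F)).exact₃ _ (sesM_shortExact I i m) j (j + 1) rfl).mono_g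
      ((isZero_mid F I i m hj).eq_of_src _ _)
  exact isIso_of_mono_of_epi _

lemma isIso_tt (m : ℤ) : ∀ (i j N : ℕ) (h : i + j = N), i = 0 ∨ 0 < j → IsIso (tt F I m i j N h) := by
  intro i
  induction i with
  | zero =>
    intro j N h _
    haveI : IsIso ((inv (toZero I)).f m) :=
      inferInstanceAs (IsIso ((HomologicalComplex.eval A (ComplexShape.up ℤ) m).map (inv (toZero I))))
    simp only [tt]
    infer_instance
  | succ i ih =>
    intro j N h hj
    haveI := ih (j + 1) N (by omega) (Or.inr j.succ_pos)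
    haveI := isIso_dlt F I i m (hj.resolve_left (by omega))
    simp only [tt]
    infer_instance

/-- higher derived functors of cosyzygies -/
theorem isZero_cycles {n : ℕ} (hdim : ∀ (X : A) (i : ℕ), n < i → IsZero ((F.rightDerived i).obj X))
    (m : ℤ) (j : ℕ) (hj : 0 < j) : IsZero ((F.rightDerived j).obj ((I.cocomplex.cycles n).X m)) :=
  haveI := isIso_tt F I m n j (n + j) rfl (Or.inr hj)
  (hdim (K.X m) (n + j) (by omega)).of_iso (asIso (tt F I m n j (n + j) rfl))

variable (n : ℕ) [(F.rightDerived n).Additive]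

/-- the comparison on complexes -/
noncomputable def tau : (F.mapHomologicalComplex (ComplexShape.up ℤ)).obj (I.cocomplex.cycles n) ⟶
    ((F.rightDerived n).mapHomologicalComplex (ComplexShape.up ℤ)).obj K where
  f m := F.toRightDerivedZero.app ((I.cocomplex.cycles n).X m) ≫ tt F I m n 0 n (add_zero n)
  comm' m m' _ := by
    show (F.toRightDerivedZero.app ((I.cocomplex.cycles n).X m) ≫ tt F I m n 0 n (add_zero n)) ≫
        (F.rightDerived n).map (K.d m m') =
      F.map ((I.cocomplex.cycles n).d m m') ≫
        F.toRightDerivedZero.app ((I.cocomplex.cycles n).X m') ≫ tt F I m' n 0 n (add_zero n)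
    rw [Category.assoc, ← tt_d F I m m' n 0 n (add_zero n), ← Category.assoc, ← Category.assoc,
      F.toRightDerivedZero.naturality]

variable {I I'}

lemma tau_naturality {f : K ⟶ K'} {φ : I.cocomplex ⟶ I'.cocomplex}
    (hφ : RDerLib.ι₀ I ≫ φ.f 0 = f ≫ RDerLib.ι₀ I') :
    (F.mapHomologicalComplex (ComplexShape.up ℤ)).map (HomologicalComplex.cyclesMap φ n) ≫ tau F I' n =
      tau F I n ≫ ((F.rightDerived n).mapHomologicalComplex (ComplexShape.up ℤ)).map f := by
  ext m
  show F.map ((HomologicalComplex.cyclesMap φ n).f m) ≫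
      F.toRightDerivedZero.app ((I'.cocomplex.cycles n).X m) ≫ tt F I' m n 0 n (add_zero n) =
    (F.toRightDerivedZero.app ((I.cocomplex.cycles n).X m) ≫ tt F I m n 0 n (add_zero n)) ≫
      (F.rightDerived n).map (f.f m)
  rw [Category.assoc, ← tt_naturality F hφ m n 0 n (add_zero n), ← Category.assoc, ← Category.assoc,
    F.toRightDerivedZero.naturality]

variable [PreservesFiniteLimits F]

omit [EnoughInjectives A] [PreservesFiniteLimits F] in
theorem acyclic_of_shortExact {S : ShortComplex (CochainComplex B ℤ)} (hS : S.ShortExact) (h1 : S.X₁.Acyclic)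
    (h2 : S.X₂.Acyclic) : S.X₃.Acyclic := fun i => by
  rw [HomologicalComplex.exactAt_iff_isZero_homology]
  exact (hS.homology_exact₃ i (i + 1) rfl).isZero_X₂ ((h2 i).isZero_homology.eq_of_src _ _)
    ((h1 (i + 1)).isZero_homology.eq_of_tgt _ _)

omit [PreservesFiniteLimits F] in
theorem acyclic_injective_complex (X : CochainComplex A ℤ) [Injective X] :
    ((F.mapHomologicalComplex (ComplexShape.up ℤ)).obj X).Acyclic := fun i => by
  obtain ⟨h⟩ := (HomotopyCategory.isZero_quotient_obj_iff X).1 (isZero_quotient_injective X)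
  rw [HomologicalComplex.exactAt_iff_isZero_homology, IsZero.iff_id_eq_zero,
    ← HomologicalComplex.homologyMap_id]
  have := (F.mapHomotopy h).homologyMap_eq i
  simpa using this

variable (I)

/-- the sequence after applying the functor -/
noncomputable abbrev sesF (i : ℕ) : ShortComplex (CochainComplex B ℤ) :=
  (sesZ I i).map (F.mapHomologicalComplex (ComplexShape.up ℤ))

theorem acyclic_map_cycles (hdim : ∀ (X : A) (i : ℕ), n < i → IsZero ((F.rightDerived i).obj X))
    (hK : PClCx F n K) : ∀ i : ℕ, i < n → ((F.mapHomologicalComplex (ComplexShape.up ℤ)).obj (I.cocomplex.cycles i)).Acyclic := by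
  intro i
  induction i with
  | zero =>
    intro hn k
    haveI : IsIso ((inv (toZero I)).f k) :=
      inferInstanceAs (IsIso ((HomologicalComplex.eval A (ComplexShape.up ℤ) k).map (inv (toZero I))))
    refine ShortComplex.exact_of_isZero_X₂ _ ?_
    exact (hK k 0 (by omega)).of_iso (asIso (F.map ((inv (toZero I)).f k) ≫ F.toRightDerivedZero.app (K.X k)))
  | succ i ih =>
    intro hn
    have hS : (sesF F I i).ShortExact := by
      refine HomologicalComplex.shortExact_of_degreewise_shortExact _ fun m => ?_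
      refine shortExact_map F (sesM_shortExact I i m) ?_
      haveI := isIso_tt F I m i 1 (i + 1) rfl (Or.inr Nat.one_pos)
      exact (hK m (i + 1) (by omega)).of_iso (asIso (tt F I m i 1 (i + 1) rfl))
    haveI := I.injective i
    exact acyclic_of_shortExact hS (ih (by omega)) (acyclic_injective_complex F (I.cocomplex.X i))

theorem quasiIso_tau_succ (q : ℕ) [(F.rightDerived (q + 1)).Additive]
    (hdim : ∀ (X : A) (i : ℕ), q + 1 < i → IsZero ((F.rightDerived i).obj X))
    (hK : PClCx F (q + 1) K) : QuasiIso (tau F I (q + 1)) := by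
  let g : (sesF F I q).X₂ ⟶ (sesF F I q).X₃ := (sesF F I q).g
  let τ : (sesF F I q).X₃ ⟶ ((F.rightDerived (q + 1)).mapHomologicalComplex (ComplexShape.up ℤ)).obj K :=
    tau F I (q + 1)
  have hg : ∀ m, g.f m = F.map (sesM I q m).g := fun m => rfl
  have hτ : ∀ m, τ.f m = F.toRightDerivedZero.app (sesM I q m).X₃ ≫ dlt F (sesM_shortExact I q m) 0 1 rfl ≫
      tt F I m q 1 (q + 1) rfl := fun m => rfl
  have hmono : ∀ m, (sesF F I q).f.f m = F.map (sesM I q m).f := fun m => rfl
  have w : g ≫ τ = 0 := by
    ext m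
    rw [HomologicalComplex.comp_f, HomologicalComplex.zero_f, hg, hτ, ← Category.assoc,
      F.toRightDerivedZero.naturality, Category.assoc,
      reassoc_of% ((RDerLib.derivedLES (F := F)).comp_δ _ (sesM_shortExact I q m) 0 1 rfl), zero_comp, comp_zero]
  have hex : (ShortComplex.mk g τ w).Exact := by
    refine HomologicalComplex.exact_of_degreewise_exact _ fun m => ?_
    haveI := isIso_tt F I m q 1 (q + 1) rfl (Or.inr Nat.one_pos)
    let e : ShortComplex.mk ((F.rightDerived 0).map (sesM I q m).g) (dlt F (sesM_shortExact I q m) 0 1 rfl)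
        ((RDerLib.derivedLES (F := F)).comp_δ _ _ 0 1 rfl) ≅
        (ShortComplex.mk g τ w).map (HomologicalComplex.eval B (ComplexShape.up ℤ) m) :=
      ShortComplex.isoMk (asIso (F.toRightDerivedZero.app (sesM I q m).X₂)).symm
        (asIso (F.toRightDerivedZero.app (sesM I q m).X₃)).symm (asIso (tt F I m q 1 (q + 1) rfl))
        (by
          show inv (F.toRightDerivedZero.app _) ≫ F.map (sesM I q m).g =
            (F.rightDerived 0).map (sesM I q m).g ≫ inv (F.toRightDerivedZero.app _)
          rw [IsIso.inv_comp_eq, ← Category.assoc, IsIso.eq_comp_inv, F.toRightDerivedZero.naturality])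
        (by
          show inv (F.toRightDerivedZero.app _) ≫ τ.f m = dlt F (sesM_shortExact I q m) 0 1 rfl ≫ tt F I m q 1 (q + 1) rfl
          rw [hτ]
          exact IsIso.inv_hom_id_assoc (F.toRightDerivedZero.app (sesM I q m).X₃) _)
    exact (ShortComplex.exact_iff_of_iso e).1 ((RDerLib.derivedLES (F := F)).exact₃ _ (sesM_shortExact I q m) 0 1 rfl)
  haveI hepi : Epi τ := by
    refine HomologicalComplex.epi_of_epi_f τ fun m => ?_
    haveI := isIso_tt F I m q 1 (q + 1) rfl (Or.inr Nat.one_pos)
    haveI := epi_dlt F I q m 0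
    rw [hτ]
    infer_instance
  let π : (sesF F I q).X₂ ⟶ kernel τ := kernel.lift τ g w
  haveI : Epi π := hex.epi_kernelLift
  have w' : (sesF F I q).f ≫ π = 0 := by
    rw [← cancel_mono (kernel.ι τ), zero_comp, Category.assoc, kernel.lift_ι]
    exact (sesF F I q).zero
  have hleft : ∀ m, ((sesM I q m).map F).Exact ∧ Mono (F.map (sesM I q m).f) := fun m =>
    ((F.preservesFiniteLimits_tfae.out 3 0 rfl rfl).1 ‹PreservesFiniteLimits F›) _ (sesM_shortExact I q m)
  have hS : (ShortComplex.mk (sesF F I q).f π w').ShortExact := by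
    refine ShortComplex.ShortExact.mk' ?_ ?_ (inferInstanceAs (Epi π))
    · let ψ : ShortComplex.mk (sesF F I q).f π w' ⟶ sesF F I q :=
        { τ₁ := 𝟙 _, τ₂ := 𝟙 _, τ₃ := kernel.ι τ, comm₁₂ := by simp
          comm₂₃ := by simp [π, g] }
      haveI : Epi ψ.τ₁ := inferInstanceAs (Epi (𝟙 _))
      haveI : IsIso ψ.τ₂ := inferInstanceAs (IsIso (𝟙 _))
      haveI : Mono ψ.τ₃ := inferInstanceAs (Mono (kernel.ι τ))
      exact (ShortComplex.exact_iff_of_epi_of_isIso_of_mono ψ).2
        (HomologicalComplex.exact_of_degreewise_exact _ fun m => (hleft m).1)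
    · exact HomologicalComplex.mono_of_mono_f _ fun m => by rw [hmono]; exact (hleft m).2
  haveI := I.injective q
  have hC : (kernel τ).Acyclic := acyclic_of_shortExact hS
    (acyclic_map_cycles F (n := q + 1) I hdim hK q q.lt_succ_self) (acyclic_injective_complex F (I.cocomplex.X q))
  have hS' : (ShortComplex.mk (kernel.ι τ) τ (kernel.condition τ)).ShortExact :=
    ShortComplex.ShortExact.mk' (ShortComplex.exact_kernel τ) (inferInstanceAs (Mono (kernel.ι τ))) hepi
  refine ⟨fun i => ?_⟩
  rw [quasiIsoAt_iff_isIso_homologyMap]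
  haveI : Mono (HomologicalComplex.homologyMap τ i) :=
    (hS'.homology_exact₂ i).mono_g ((hC i).isZero_homology.eq_of_src _ _)
  haveI : Epi (HomologicalComplex.homologyMap τ i) :=
    (hS'.homology_exact₃ i (i + 1) rfl).epi_f ((hC (i + 1)).isZero_homology.eq_of_tgt _ _)
  exact isIso_of_mono_of_epi (HomologicalComplex.homologyMap τ i)

theorem quasiIso_tau (hdim : ∀ (X : A) (i : ℕ), n < i → IsZero ((F.rightDerived i).obj X))
    (hK : PClCx F n K) : QuasiIso (tau F I n) := by
  rcases n with _ | q
  · haveI : ∀ m, IsIso ((tau F I 0).f m) := fun m => by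
      haveI := isIso_tt F I m 0 0 0 (add_zero 0) (Or.inl rfl)
      exact inferInstanceAs (IsIso (F.toRightDerivedZero.app ((I.cocomplex.cycles 0).X m) ≫ tt F I m 0 0 0 (add_zero 0)))
    haveI := HomologicalComplex.Hom.isIso_of_components (tau F I 0)
    infer_instance
  · exact quasiIso_tau_succ F I q hdim hK

end Groth.Agent.AcycDef
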