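import Groth.Agent.AcycDef.Acyclic
import Mathlib

/-!
# Injective complexes and functorial cosyzygies
-/

set_option autoImplicit false
set_option linter.style.haveILetI false
set_option linter.unusedSectionVars false
set_option backward.isDefEq.respectTransparency false
set_option backward.isDefEq.respectTransparency.types false

universe w v u

open CategoryTheory Limits Pretriangulated

namespace Groth.Agent.AcycDef

variable {A : Type u} [Category.{v} A] [Abelian A]

/-- a product of disks -/
noncomputable def disk (J : ℤ → A) : CochainComplex A ℤ :=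
  CochainComplex.of (fun k => J k ⊞ J (k + 1)) (fun _ => biprod.snd ≫ biprod.inl) (fun k => by simp)

lemma disk_d (J : ℤ → A) (a : ℤ) :
    (disk J).d a (a + 1) = (biprod.snd ≫ biprod.inl : J a ⊞ J (a + 1) ⟶ J (a + 1) ⊞ J (a + 1 + 1)) := by
  simp [disk, CochainComplex.of, CochainComplex.of.d]

theorem disk_injective (J : ℤ → A) [∀ k, Injective (J k)] : Injective (disk J) := by
  refine ⟨fun {X Y} g f _ => ?_⟩
  haveI : ∀ k, Mono (f.f k) := fun k => inferInstance
  let a : ∀ k, Y.X k ⟶ J k := fun k => Injective.factorThru (g.f k ≫ (biprod.fst : J k ⊞ J (k + 1) ⟶ J k)) (f.f k)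
  have ha : ∀ k, f.f k ≫ a k = g.f k ≫ (biprod.fst : J k ⊞ J (k + 1) ⟶ J k) := fun k => Injective.comp_factorThru _ _
  let h : Y ⟶ disk J :=
    { f := fun k => biprod.lift (a k) (Y.d k (k + 1) ≫ a (k + 1))
      comm' := fun p q hpq => by
        obtain rfl : p + 1 = q := hpq
        rw [disk_d]
        apply biprod.hom_ext <;> simp }
  refine ⟨h, ?_⟩
  ext k
  apply biprod.hom_ext
  · simpa [h] using ha k
  · have e := g.comm k (k + 1)
    rw [disk_d] at e
    have e' := e =≫ (biprod.fst : J (k + 1) ⊞ J (k + 1 + 1) ⟶ J (k + 1))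
    simp only [Category.assoc, biprod.inl_fst, Category.comp_id] at e'
    simp only [h, HomologicalComplex.comp_f, Category.assoc, biprod.lift_snd]
    exact (f.comm_assoc k (k + 1) (a (k + 1))).trans ((congrArg (X.d k (k + 1) ≫ ·) (ha (k + 1))).trans e'.symm)

theorem disk_isZero (J : ℤ → A) : IsZero ((HomotopyCategory.quotient A (ComplexShape.up ℤ)).obj (disk J)) := by
  rw [HomotopyCategory.isZero_quotient_obj_iff]
  let h : ∀ i j : ℤ, (ComplexShape.up ℤ).Rel j i → ((disk J).X i ⟶ (disk J).X j) := fun i j hij =>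
    (biprod.fst : J i ⊞ J (i + 1) ⟶ J i) ≫ eqToHom (congrArg J (hij : j + 1 = i).symm) ≫
      (biprod.inr : J (j + 1) ⟶ J j ⊞ J (j + 1))
  refine ⟨(Homotopy.ofEq ?_).trans (Homotopy.nullHomotopy' h)⟩
  ext k
  rw [Homotopy.nullHomotopicMap'_f (show (ComplexShape.up ℤ).Rel (k - 1) k from sub_add_cancel k 1)
    (show (ComplexShape.up ℤ).Rel k (k + 1) from rfl)]
  obtain ⟨l, rfl⟩ : ∃ l, k = l + 1 := ⟨k - 1, by omega⟩
  have e : ∀ (a : ℤ) (ha : a = l) (hr : a + 1 = l + 1),
      h (l + 1) a hr ≫ (disk J).d a (l + 1) =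
        (biprod.fst : J (l + 1) ⊞ J (l + 1 + 1) ⟶ J (l + 1)) ≫ biprod.inl := by
    rintro a rfl hr
    simp [h, disk_d]
  rw [e (l + 1 - 1) (by omega) (by omega), disk_d]
  simp only [h, HomologicalComplex.id_f]
  show 𝟙 (J (l + 1) ⊞ J (l + 1 + 1)) = _
  apply biprod.hom_ext' <;> apply biprod.hom_ext <;> simp

variable [EnoughInjectives A]

theorem exists_mono_disk (X : CochainComplex A ℤ) :
    ∃ (J : ℤ → A) (_ : ∀ k, Injective (J k)) (ι : X ⟶ disk J), Mono ι := by
  let J : ℤ → A := fun k => Injective.under (X.X k)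
  haveI : ∀ k, Injective (J k) := fun k => inferInstanceAs (Injective (Injective.under (X.X k)))
  let f : ∀ k, X.X k ⟶ J k ⊞ J (k + 1) := fun k =>
    biprod.lift (Injective.ι (X.X k)) (X.d k (k + 1) ≫ Injective.ι (X.X (k + 1)))
  let ι : X ⟶ disk J :=
    { f := f
      comm' := fun a b hab => by
        obtain rfl : a + 1 = b := hab
        rw [disk_d]
        apply biprod.hom_ext <;> simp [f] }
  haveI : ∀ k, Mono (ι.f k) := fun k => by
    haveI : Mono (f k ≫ biprod.fst) := by
      simp only [f, biprod.lift_fst]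
      infer_instance
    exact mono_of_mono (f k) biprod.fst
  exact ⟨J, inferInstance, ι, HomologicalComplex.mono_of_mono_f ι (fun k => inferInstance)⟩

noncomputable instance enoughInjectivesComplex : EnoughInjectives (CochainComplex A ℤ) :=
  ⟨fun X => by
    obtain ⟨J, hJ, ι, hι⟩ := exists_mono_disk X
    haveI := disk_injective J
    exact ⟨{ J := disk J, f := ι }⟩⟩

theorem retract_disk (X : CochainComplex A ℤ) [Injective X] :
    ∃ (J : ℤ → A) (_ : ∀ k, Injective (J k)) (i : X ⟶ disk J) (r : disk J ⟶ X), i ≫ r = 𝟙 X := by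
  obtain ⟨J, hJ, ι, hι⟩ := exists_mono_disk X
  exact ⟨J, hJ, ι, Injective.factorThru (𝟙 X) ι, Injective.comp_factorThru _ _⟩

theorem isZero_quotient_injective (X : CochainComplex A ℤ) [Injective X] :
    IsZero ((HomotopyCategory.quotient A (ComplexShape.up ℤ)).obj X) := by
  obtain ⟨J, hJ, i, r, e⟩ := retract_disk X
  rw [IsZero.iff_id_eq_zero, ← (HomotopyCategory.quotient A (ComplexShape.up ℤ)).map_id, ← e, Functor.map_comp,
    (disk_isZero J).eq_of_tgt ((HomotopyCategory.quotient A (ComplexShape.up ℤ)).map i) 0, zero_comp]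

theorem injective_term (X : CochainComplex A ℤ) [Injective X] (m : ℤ) : Injective (X.X m) := by
  obtain ⟨J, hJ, i, r, e⟩ := retract_disk X
  haveI : Injective ((disk J).X m) := inferInstanceAs (Injective (J m ⊞ J (m + 1)))
  refine ⟨fun g f _ => ⟨Injective.factorThru (g ≫ i.f m) f ≫ r.f m, ?_⟩⟩
  rw [Injective.comp_factorThru_assoc, Category.assoc, ← HomologicalComplex.comp_f, e, HomologicalComplex.id_f,
    Category.comp_id]

theorem isZero_Q_injective [HasDerivedCategory.{w} A] (X : CochainComplex A ℤ) [Injective X] :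
    IsZero (DerivedCategory.Q.obj X) :=
  (DerivedCategory.Qh.map_isZero (isZero_quotient_injective X)).of_iso
    ((DerivedCategory.quotientCompQhIso A).app X).symm

/-! ### Cosyzygies -/

section

variable {K K' : CochainComplex A ℤ} (I : InjectiveResolution K) (I' : InjectiveResolution K')

/-- the sequence of cosyzygies -/
noncomputable abbrev sesZ (i : ℕ) : ShortComplex (CochainComplex A ℤ) :=
  ShortComplex.mk (I.cocomplex.iCycles i)
    (I.cocomplex.liftCycles (I.cocomplex.d i (i + 1)) ((ComplexShape.up ℕ).next (i + 1)) rfl (I.cocomplex.d_comp_d _ _ _))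
    (by rw [← cancel_mono (I.cocomplex.iCycles (i + 1))]; simp)

theorem sesZ_shortExact (i : ℕ) : (sesZ I i).ShortExact :=
  shortExact_cycles I.cocomplex i (i + 1) rfl (I.cocomplex_exactAt_succ i)

theorem ι₀_d : (RDerLib.ι₀ I : K ⟶ I.cocomplex.X 0) ≫ I.cocomplex.d 0 1 = 0 := I.ι_f_zero_comp_complex_d

/-- the augmentation as cycles -/
noncomputable def toZero : K ⟶ I.cocomplex.cycles 0 :=
  I.cocomplex.liftCycles (RDerLib.ι₀ I) 1 (by simp) (ι₀_d I)

instance : IsIso (toZero I) := by
  rw [toZero, CochainComplex.isIso_liftCycles_iff]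
  exact ⟨I.exact₀, inferInstanceAs (Mono (RDerLib.ι₀ I))⟩

variable {I I'}

lemma toZero_naturality {f : K ⟶ K'} {φ : I.cocomplex ⟶ I'.cocomplex}
    (h : RDerLib.ι₀ I ≫ φ.f 0 = f ≫ RDerLib.ι₀ I') :
    toZero I ≫ HomologicalComplex.cyclesMap φ 0 = f ≫ toZero I' := by
  rw [← cancel_mono (I'.cocomplex.iCycles 0)]
  simp [toZero, h]

/-- morphisms of cosyzygy sequences -/
noncomputable def sesZMap (φ : I.cocomplex ⟶ I'.cocomplex) (i : ℕ) : sesZ I i ⟶ sesZ I' i where
  τ₁ := HomologicalComplex.cyclesMap φ i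
  τ₂ := φ.f i
  τ₃ := HomologicalComplex.cyclesMap φ (i + 1)
  comm₁₂ := by simp
  comm₂₃ := by
    rw [← cancel_mono (I'.cocomplex.iCycles (i + 1))]
    simp

/-- cycles of homotopic maps of injective resolutions agree up to homotopy -/
theorem cyc_congr {φ ψ : I.cocomplex ⟶ I'.cocomplex} (H : Homotopy φ ψ) (i : ℕ) :
    (HomotopyCategory.quotient A (ComplexShape.up ℤ)).map (HomologicalComplex.cyclesMap φ i) =
      (HomotopyCategory.quotient A (ComplexShape.up ℤ)).map (HomologicalComplex.cyclesMap ψ i) := by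
  cases i with
  | zero =>
    congr 1
    rw [← cancel_mono (I'.cocomplex.iCycles 0)]
    simp [H.comm 0]
  | succ m =>
    have e : HomologicalComplex.cyclesMap φ (m + 1) =
        (I.cocomplex.iCycles (m + 1) ≫ H.hom (m + 1) m) ≫ I'.cocomplex.toCycles m (m + 1) +
          HomologicalComplex.cyclesMap ψ (m + 1) := by
      rw [← cancel_mono (I'.cocomplex.iCycles (m + 1))]
      have hc := H.comm (m + 1)
      rw [Homotopy.dNext_cochainComplex, Homotopy.prevD_succ_cochainComplex] at hc
      simp [hc]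
    haveI := I'.injective m
    rw [e, Functor.map_add, Functor.map_comp, (isZero_quotient_injective (I'.cocomplex.X m)).eq_of_tgt
      ((HomotopyCategory.quotient A (ComplexShape.up ℤ)).map (I.cocomplex.iCycles (m + 1) ≫ H.hom (m + 1) m)) 0,
      zero_comp, zero_add]

variable [HasDerivedCategory.{w} A] (I I')

/-- the comparison of cosyzygies with shifts -/
noncomputable def eps : ∀ i : ℕ, DerivedCategory.Q.obj (I.cocomplex.cycles i) ⟶ (DerivedCategory.Q.obj K)⟦(i : ℤ)⟧
  | 0 => DerivedCategory.Q.map (inv (toZero I)) ≫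
      (shiftFunctorZero' (DerivedCategory A) ((0 : ℕ) : ℤ) Nat.cast_zero).inv.app _
  | i + 1 => DerivedCategory.triangleOfSESδ (sesZ_shortExact I i) ≫ (eps i)⟦(1 : ℤ)⟧' ≫
      (shiftFunctorAdd' (DerivedCategory A) (i : ℤ) 1 ((i + 1 : ℕ) : ℤ) (by simp)).inv.app _

instance isIso_eps : ∀ i : ℕ, IsIso (eps I i)
  | 0 => by rw [eps]; infer_instance
  | i + 1 => by
    haveI := isIso_eps i
    haveI : IsIso (DerivedCategory.triangleOfSESδ (sesZ_shortExact I i)) :=
      (Triangle.isZero₂_iff_isIso₃ _ (DerivedCategory.triangleOfSES_distinguished (sesZ_shortExact I i))).1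
        (haveI := I.injective i; isZero_Q_injective (I.cocomplex.X i))
    rw [eps]
    infer_instance

variable {I I'}

lemma eps_naturality {f : K ⟶ K'} {φ : I.cocomplex ⟶ I'.cocomplex}
    (h : RDerLib.ι₀ I ≫ φ.f 0 = f ≫ RDerLib.ι₀ I') (i : ℕ) :
    eps I i ≫ (DerivedCategory.Q.map f)⟦(i : ℤ)⟧' =
      DerivedCategory.Q.map (HomologicalComplex.cyclesMap φ i) ≫ eps I' i := by
  induction i with
  | zero =>
    have e : inv (toZero I) ≫ f = HomologicalComplex.cyclesMap φ 0 ≫ inv (toZero I') := by
      rw [IsIso.inv_comp_eq, ← Category.assoc, toZero_naturality h]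
      simp
    simp only [eps, Category.assoc]
    rw [← (shiftFunctorZero' (DerivedCategory A) ((0 : ℕ) : ℤ) Nat.cast_zero).inv.naturality (DerivedCategory.Q.map f)]
    simp only [Functor.id_map]
    rw [← Functor.map_comp_assoc, ← Functor.map_comp_assoc, e]
  | succ i ih =>
    simp only [eps, Category.assoc]
    rw [← (shiftFunctorAdd' (DerivedCategory A) (i : ℤ) 1 ((i + 1 : ℕ) : ℤ) (by simp)).inv.naturality (DerivedCategory.Q.map f)]
    simp only [Functor.comp_map]
    rw [← Functor.map_comp_assoc, ih, Functor.map_comp_assoc, ← Category.assoc]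
    have e := DerivedCategory.triangleOfSESδ_naturality (sesZ_shortExact I i) (sesZ_shortExact I' i) (sesZMap φ i)
    dsimp only [sesZMap] at e
    rw [e, Category.assoc]

end

section

variable (A) (n : ℕ)

/-- the functorial cosyzygy -/
noncomputable def cosyz : CochainComplex A ℤ ⥤ HomotopyCategory A (ComplexShape.up ℤ) where
  obj K := (HomotopyCategory.quotient A (ComplexShape.up ℤ)).obj ((injectiveResolution K).cocomplex.cycles n)
  map f := (HomotopyCategory.quotient A (ComplexShape.up ℤ)).map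
    (HomologicalComplex.cyclesMap (InjectiveResolution.desc f _ _) n)
  map_id K := by
    rw [cyc_congr (InjectiveResolution.descIdHomotopy K _) n]
    simp
  map_comp {K L M} f g := by
    rw [cyc_congr (InjectiveResolution.descCompHomotopy f g _ (injectiveResolution L) _) n,
      HomologicalComplex.cyclesMap_comp, Functor.map_comp]

lemma ι₀_desc {K K' : CochainComplex A ℤ} (f : K ⟶ K') (I : InjectiveResolution K) (I' : InjectiveResolution K') :
    RDerLib.ι₀ I ≫ (InjectiveResolution.desc f I' I).f 0 = f ≫ RDerLib.ι₀ I' :=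
  InjectiveResolution.desc_commutes_zero f I' I

variable [HasDerivedCategory.{w} A]

/-- the cosyzygy represents the shift -/
noncomputable def cosyzIso : cosyz A n ⋙ DerivedCategory.Qh ≅
    DerivedCategory.Q ⋙ shiftFunctor (DerivedCategory A) (n : ℤ) :=
  NatIso.ofComponents
    (fun K => (DerivedCategory.quotientCompQhIso A).app _ ≪≫ asIso (eps (injectiveResolution K) n))
    (fun {K K'} f => by
      dsimp [cosyz]
      rw [DerivedCategory.quotientCompQhIso_hom_naturality_assoc, Category.assoc,
        eps_naturality (ι₀_desc A f (injectiveResolution K) (injectiveResolution K')) n])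

end

end Groth.Agent.AcycDef
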