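import Mathlib.CategoryTheory.Functor.Derived.PointwiseRightDerived
import Mathlib.CategoryTheory.Localization.CalculusOfFractions
import Mathlib

/-!
Right derived functors computed by a class of objects on which the functor inverts the morphisms to be
inverted (calculus of left fractions).
-/

set_option autoImplicit false

namespace Groth.Agent.AcycDef

open CategoryTheory Limits

variable {C D H : Type*} [Category* C] [Category* D] [Category* H]

/-- `P` computes the right derived functor of `F` along `L` -/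
structure IsDef (L : C ⥤ D) (F : C ⥤ H) (P : ObjectProperty C) : Prop where
  roof : ∀ {X I : C}, P I → ∀ g : L.obj X ⟶ L.obj I,
    ∃ (J : C) (f : X ⟶ J) (s : I ⟶ J), P J ∧ IsIso (L.map s) ∧ IsIso (F.map s) ∧ g ≫ L.map s = L.map f
  wd : ∀ {X I : C} (f g : X ⟶ I), P I → L.map f = L.map g → F.map f = F.map g
  res : ∀ d : D, ∃ I, P I ∧ Nonempty (d ≅ L.obj I)

namespace IsDef

variable {L : C ⥤ D} {F : C ⥤ H} {P : ObjectProperty C}

/-- the induced map -/
noncomputable def lift (h : IsDef L F P) {X I : C} (hI : P I) (g : L.obj X ⟶ L.obj I) : F.obj X ⟶ F.obj I :=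
  haveI := (h.roof hI g).choose_spec.choose_spec.choose_spec.2.2.1
  F.map (h.roof hI g).choose_spec.choose ≫ inv (F.map (h.roof hI g).choose_spec.choose_spec.choose)

lemma roof_unique (h : IsDef L F P) {X I : C} (g : L.obj X ⟶ L.obj I) {J J' : C} (f : X ⟶ J) (s : I ⟶ J)
    (f' : X ⟶ J') (s' : I ⟶ J') (hJ' : P J') [IsIso (L.map s)] [IsIso (F.map s)] [IsIso (F.map s')]
    (e : g ≫ L.map s = L.map f) (e' : g ≫ L.map s' = L.map f') :
    F.map f' ≫ inv (F.map s') = F.map f ≫ inv (F.map s) := by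
  obtain ⟨K, a, b, hK, hb1, hb2, eab⟩ := h.roof hJ' (inv (L.map s) ≫ L.map s')
  have e1 : F.map s ≫ F.map a = F.map s' ≫ F.map b := by
    rw [← F.map_comp, ← F.map_comp]
    refine h.wd _ _ hK ?_
    rw [L.map_comp, L.map_comp, ← eab]
    simp
  have e2 : F.map f ≫ F.map a = F.map f' ≫ F.map b := by
    rw [← F.map_comp, ← F.map_comp]
    refine h.wd _ _ hK ?_
    rw [L.map_comp, L.map_comp, ← eab, ← e, ← e']
    simp
  haveI : IsIso (F.map s ≫ F.map a) := by rw [e1]; infer_instance
  haveI : IsIso (F.map a) := IsIso.of_isIso_comp_left (F.map s) _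
  calc F.map f' ≫ inv (F.map s') = (F.map f' ≫ F.map b) ≫ inv (F.map s' ≫ F.map b) := by simp
    _ = (F.map f ≫ F.map a) ≫ inv (F.map s ≫ F.map a) := by simp only [e1, e2]
    _ = F.map f ≫ inv (F.map s) := by simp

lemma lift_eq (h : IsDef L F P) {X I : C} (hI : P I) (g : L.obj X ⟶ L.obj I) {J : C} (f : X ⟶ J) (s : I ⟶ J)
    (_hJ : P J) [IsIso (L.map s)] [IsIso (F.map s)] (e : g ≫ L.map s = L.map f) :
    h.lift hI g = F.map f ≫ inv (F.map s) := by
  haveI := (h.roof hI g).choose_spec.choose_spec.choose_spec.2.2.1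
  exact h.roof_unique g f s _ _ (h.roof hI g).choose_spec.choose_spec.choose_spec.1 e
    (h.roof hI g).choose_spec.choose_spec.choose_spec.2.2.2

lemma lift_map (h : IsDef L F P) {X I : C} (hI : P I) (f : X ⟶ I) : h.lift hI (L.map f) = F.map f := by
  haveI : IsIso (L.map (𝟙 I)) := by rw [L.map_id]; infer_instance
  haveI : IsIso (F.map (𝟙 I)) := by rw [F.map_id]; infer_instance
  rw [h.lift_eq hI _ f (𝟙 I) hI (by simp)]
  simp

lemma lift_comp (h : IsDef L F P) {X Y I : C} (hI : P I) (φ : X ⟶ Y) (g : L.obj Y ⟶ L.obj I) :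
    h.lift hI (L.map φ ≫ g) = F.map φ ≫ h.lift hI g := by
  obtain ⟨J, f, s, hJ, hs1, hs2, e⟩ := h.roof hI g
  rw [h.lift_eq hI g f s hJ e, h.lift_eq hI (L.map φ ≫ g) (φ ≫ f) s hJ (by simp [e]), F.map_comp, Category.assoc]

/-- the colimit cocone at `L.obj I` -/
noncomputable def cocone (h : IsDef L F P) {I : C} (hI : P I) :
    Cocone (CostructuredArrow.proj L (L.obj I) ⋙ F) where
  pt := F.obj I
  ι :=
    { app := fun j => h.lift hI j.hom
      naturality := fun j j' φ => by
        show F.map φ.left ≫ h.lift hI j'.hom = h.lift hI j.hom ≫ 𝟙 _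
        rw [Category.comp_id, ← h.lift_comp hI, CostructuredArrow.w φ] }

lemma cocone_ι_self (h : IsDef L F P) {I : C} (hI : P I) :
    (h.cocone hI).ι.app (CostructuredArrow.mk (𝟙 (L.obj I))) = 𝟙 (F.obj I) := by
  show h.lift hI (𝟙 (L.obj I)) = 𝟙 (F.obj I)
  rw [← L.map_id, h.lift_map, F.map_id]

/-- the cocone is a colimit -/
noncomputable def isColimitCocone (h : IsDef L F P) {I : C} (hI : P I) :
    IsColimit (h.cocone hI) where
  desc s := s.ι.app (CostructuredArrow.mk (𝟙 (L.obj I)))
  fac c j := by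
    obtain ⟨J, f, s, hJ, hs1, hs2, e⟩ := h.roof hI j.hom
    let t : CostructuredArrow L (L.obj I) := CostructuredArrow.mk (inv (L.map s))
    have n1 := c.ι.naturality (CostructuredArrow.homMk f (by simp [t, ← e]) : j ⟶ t)
    have n2 := c.ι.naturality (CostructuredArrow.homMk s (by simp [t]) : CostructuredArrow.mk (𝟙 (L.obj I)) ⟶ t)
    have m1 : F.map f ≫ c.ι.app t = c.ι.app j := n1.trans (Category.comp_id _)
    have m2 : F.map s ≫ c.ι.app t = c.ι.app (CostructuredArrow.mk (𝟙 (L.obj I))) := n2.trans (Category.comp_id _)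
    show h.lift hI j.hom ≫ c.ι.app (CostructuredArrow.mk (𝟙 (L.obj I))) = c.ι.app j
    rw [h.lift_eq hI j.hom f s hJ e]
    refine Eq.trans ?_ m1
    refine Eq.trans (congrArg ((F.map f ≫ inv (F.map s)) ≫ ·) m2.symm) ?_
    exact (Category.assoc _ _ _).trans (congrArg (F.map f ≫ ·) (IsIso.inv_hom_id_assoc _ _))
  uniq s m hm := by
    have := hm (CostructuredArrow.mk (𝟙 (L.obj I)))
    rw [cocone_ι_self] at this
    exact ((Category.id_comp m).symm.trans this)

lemma hasPointwiseLeftKanExtension (h : IsDef L F P) :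
    L.HasPointwiseLeftKanExtension F := fun d => by
  obtain ⟨I, hI, ⟨e⟩⟩ := h.res d
  rw [Functor.hasPointwiseLeftKanExtensionAt_iff_of_iso L F e]
  exact ⟨_, h.isColimitCocone hI⟩

variable (W : MorphismProperty C) [L.IsLocalization W]

lemma hasPointwiseRightDerivedFunctor (h : IsDef L F P) :
    F.HasPointwiseRightDerivedFunctor W := fun X => by
  rw [F.hasPointwiseRightDerivedFunctorAt_iff L W]
  exact h.hasPointwiseLeftKanExtension _

lemma hasRightDerivedFunctor (h : IsDef L F P) : F.HasRightDerivedFunctor W := by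
  have := h.hasPointwiseRightDerivedFunctor W
  infer_instance

lemma isIso_app (h : IsDef L F P) (RF : D ⥤ H) (α : F ⟶ L ⋙ RF)
    [RF.IsRightDerivedFunctor α W] {I : C} (hI : P I) : IsIso (α.app I) := by
  have := h.hasPointwiseRightDerivedFunctor W
  let hE := Functor.isPointwiseLeftKanExtensionOfHasPointwiseRightDerivedFunctor RF α W (L.obj I)
  have h₁ := hE.fac (h.cocone hI) (CostructuredArrow.mk (𝟙 (L.obj I)))
  rw [cocone_ι_self] at h₁
  refine ⟨hE.desc (h.cocone hI), ?_, IsColimit.hom_ext hE fun j => ?_⟩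
  · simpa using! h₁
  · have h₂ := IsColimit.fac hE (h.cocone hI) j
    have h₃ : α.app j.left ≫ RF.map j.hom = h.lift hI j.hom ≫ α.app I := by
      obtain ⟨J, f, s, hJ, hs1, hs2, e⟩ := h.roof hI j.hom
      rw [h.lift_eq hI j.hom f s hJ e, ← cancel_mono (RF.map (L.map s)), Category.assoc, ← RF.map_comp, e]
      have n1 := α.naturality f
      have n2 := α.naturality s
      simp only [Functor.comp_map] at n1 n2
      rw [← n1, Category.assoc, Category.assoc, ← n2, IsIso.inv_hom_id_assoc]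
    refine ((Category.assoc _ _ _).symm.trans ?_).trans (Category.comp_id _).symm
    exact (congrArg (· ≫ α.app I) h₂).trans h₃.symm

end IsDef

/-- objects with resolutions on which `F` inverts `W` compute the derived functor -/
theorem isDef_of_fractions (L : C ⥤ D) (W : MorphismProperty C) [L.IsLocalization W] [W.HasLeftCalculusOfFractions]
    (F : C ⥤ H) (P : ObjectProperty C) (hres : ∀ X : C, ∃ (I : C) (s : X ⟶ I), P I ∧ W s)
    (hinv : ∀ {I J : C} (s : I ⟶ J), P I → P J → W s → IsIso (F.map s)) : IsDef L F P where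
  roof {X I} hI g := by
    obtain ⟨φ, hφ⟩ := Localization.exists_leftFraction L W g
    obtain ⟨J, t, hJ, ht⟩ := hres φ.Y'
    haveI h1 : IsIso (L.map φ.s) := Localization.inverts L W _ φ.hs
    haveI h2 : IsIso (L.map t) := Localization.inverts L W _ ht
    refine ⟨J, φ.f ≫ t, φ.s ≫ t, hJ, ?_, hinv _ hI hJ (W.comp_mem _ _ φ.hs ht), ?_⟩
    · rw [L.map_comp]; infer_instance
    · rw [hφ, L.map_comp, L.map_comp, MorphismProperty.LeftFraction.map_comp_map_s_assoc]
  wd {X I} f g hI h := by
    obtain ⟨Z, s, hs, e⟩ := (MorphismProperty.map_eq_iff_postcomp L W f g).1 h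
    obtain ⟨J, t, hJ, ht⟩ := hres Z
    haveI := hinv _ hI hJ (W.comp_mem _ _ hs ht)
    rw [← cancel_mono (F.map (s ≫ t)), ← F.map_comp, ← F.map_comp, reassoc_of% e]
  res d := by
    haveI := Localization.essSurj L W
    obtain ⟨I, s, hI, hs⟩ := hres (L.objPreimage d)
    haveI : IsIso (L.map s) := Localization.inverts L W _ hs
    exact ⟨I, hI, ⟨(L.objObjPreimageIso d).symm ≪≫ asIso (L.map s)⟩⟩

end Groth.Agent.AcycDef
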