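import Groth.Agent.AcycDef.Acyclic
import Groth.Agent.AcycDef.PRes
import Mathlib

/-!
# Complexes as sequential colimits of their bounded below subcomplexes; bounded below acyclic complexes
-/

set_option autoImplicit false
set_option linter.style.haveILetI false
set_option linter.unusedSectionVars false
set_option backward.isDefEq.respectTransparency false
set_option backward.isDefEq.respectTransparency.types false

universe w v v' u u'

open CategoryTheory Limits

namespace Groth.Agent.AcycDef

variable {A : Type u} [Category.{v} A] [Abelian A] (N : CochainComplex A ℤ)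

open Classical in
/-- the indicator of the removed degrees -/
noncomputable def cut (m : ℕ) (k : ℤ) : N.X k ⟶ N.X k := if k < -(m : ℤ) then 𝟙 _ else 0

lemma kernel_ι_cut {m : ℕ} {k : ℤ} (h : k < -(m : ℤ)) : kernel.ι (cut N m k) = 0 := by
  have e : cut N m k = 𝟙 _ := if_pos h
  exact (Category.comp_id _).symm.trans
    ((congrArg (kernel.ι (cut N m k) ≫ ·) e.symm).trans (kernel.condition _))

lemma isIso_kernel_ι_cut {m : ℕ} {k : ℤ} (h : ¬ k < -(m : ℤ)) : IsIso (kernel.ι (cut N m k)) := by
  have e : cut N m k = 0 := if_neg h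
  refine ⟨kernel.lift (cut N m k) (𝟙 _) (by rw [e, comp_zero]), ?_, kernel.lift_ι _ _ _⟩
  rw [← cancel_mono (kernel.ι (cut N m k))]
  simp

lemma kernel_ι_d_cut (m : ℕ) (a b : ℤ) : (kernel.ι (cut N m a) ≫ N.d a b) ≫ cut N m b = 0 := by
  by_cases h : (ComplexShape.up ℤ).Rel a b
  · by_cases hb : b < -(m : ℤ)
    · have ha : a < -(m : ℤ) := by
        change a + 1 = b at h
        omega
      rw [kernel_ι_cut N ha, zero_comp, zero_comp]
    · rw [show cut N m b = 0 from if_neg hb, comp_zero]
  · rw [N.shape _ _ h, comp_zero, zero_comp]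

/-- the bounded below subcomplex in degrees at least `-m` -/
noncomputable def trunc (m : ℕ) : CochainComplex A ℤ where
  X k := kernel (cut N m k)
  d a b := kernel.lift _ (kernel.ι (cut N m a) ≫ N.d a b) (kernel_ι_d_cut N m a b)
  shape a b h := by
    rw [← cancel_mono (kernel.ι (cut N m b))]
    simp [N.shape _ _ h]
  d_comp_d' a b c _ _ := by
    rw [← cancel_mono (kernel.ι (cut N m c))]
    simp

/-- the inclusion -/
noncomputable def truncι (m : ℕ) : trunc N m ⟶ N where
  f k := kernel.ι (cut N m k)
  comm' a b _ := by simp [trunc]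

instance (m : ℕ) : Mono (truncι N m) :=
  HomologicalComplex.mono_of_mono_f _ fun k => inferInstanceAs (Mono (kernel.ι (cut N m k)))

lemma kernel_ι_cut_le {m m' : ℕ} (h : m ≤ m') (k : ℤ) : kernel.ι (cut N m k) ≫ cut N m' k = 0 := by
  by_cases hk : k < -(m : ℤ)
  · rw [kernel_ι_cut N hk, zero_comp]
  · rw [show cut N m' k = 0 from if_neg (by omega), comp_zero]

/-- the transition maps -/
noncomputable def truncMap {m m' : ℕ} (h : m ≤ m') : trunc N m ⟶ trunc N m' where
  f k := kernel.lift _ (kernel.ι (cut N m k)) (kernel_ι_cut_le N h k)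
  comm' a b _ := by
    rw [← cancel_mono (kernel.ι (cut N m' b))]
    simp [trunc]

@[reassoc (attr := simp)]
lemma truncMap_ι {m m' : ℕ} (h : m ≤ m') : truncMap N h ≫ truncι N m' = truncι N m := by
  ext k
  simp [truncMap, truncι, trunc]

/-- the sequence of subcomplexes -/
noncomputable def truncSeq : ℕ ⥤ CochainComplex A ℤ where
  obj m := trunc N m
  map f := truncMap N (leOfHom f)
  map_id m := by simp [← cancel_mono (truncι N m)]
  map_comp {a b c} f g := by simp [← cancel_mono (truncι N c)]

/-- the cocone -/
noncomputable def truncCocone : Cocone (truncSeq N) where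
  pt := N
  ι := { app := fun m => truncι N m, naturality := fun a b f => by simp [truncSeq] }

lemma isIso_truncι_f {m : ℕ} {k : ℤ} (h : (-k).toNat ≤ m) : IsIso ((truncι N m).f k) :=
  isIso_kernel_ι_cut N (m := m) (k := k) (by omega)

lemma isIso_truncMap_f {m m' : ℕ} (h : m ≤ m') {k : ℤ} (hk : (-k).toNat ≤ m) : IsIso ((truncMap N h).f k) := by
  have e := congrArg (fun φ => HomologicalComplex.Hom.f φ k) (truncMap_ι N h)
  simp only [HomologicalComplex.comp_f] at e
  haveI := isIso_truncι_f N hk
  haveI := isIso_truncι_f N (le_trans hk h)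
  exact IsIso.of_isIso_fac_right e

/-- a complex is the colimit of its bounded below subcomplexes -/
noncomputable def isColimitTruncCocone : IsColimit (truncCocone N) :=
  HomologicalComplex.isColimitOfEval _ _ fun k => by
    have h : (truncSeq N ⋙ HomologicalComplex.eval A (ComplexShape.up ℤ) k).IsEventuallyConstantFrom (-k).toNat :=
      fun m f => isIso_truncMap_f N (leOfHom f) le_rfl
    haveI : IsIso (((HomologicalComplex.eval A (ComplexShape.up ℤ) k).mapCocone (truncCocone N)).ι.app (-k).toNat) :=
      isIso_truncι_f N le_rfl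
    exact h.isColimitOfIsIso _

instance trunc_isStrictlyGE (m : ℕ) : (trunc N m).IsStrictlyGE (-(m : ℤ)) :=
  (CochainComplex.isStrictlyGE_iff _ _).2 fun k hk =>
    IsZero.of_mono_eq_zero (kernel.ι (cut N m k)) (kernel_ι_cut N hk)

variable [HasInjectiveResolutions A] {B : Type u'} [Category.{v'} B] [Abelian B] (F : A ⥤ B) [F.Additive]

theorem acyc_trunc (hN : ∀ k, Acyc F (N.X k)) (m : ℕ) (k : ℤ) : Acyc F ((trunc N m).X k) := fun i hi => by
  haveI : (F.rightDerived i).Additive := inferInstance
  by_cases hk : k < -(m : ℤ)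
  · exact (F.rightDerived i).map_isZero (IsZero.of_mono_eq_zero (kernel.ι (cut N m k)) (kernel_ι_cut N hk))
  · haveI := isIso_kernel_ι_cut N hk
    exact (hN k i hi).of_iso ((F.rightDerived i).mapIso (asIso (kernel.ι (cut N m k))))

variable [PreservesFiniteLimits F] {N}

/-- the cycles of a bounded below exact complex of acyclic objects are acyclic -/
theorem acyc_cycles_of_bdd {a : ℤ} [N.IsStrictlyGE a] (hN : N.Acyclic) (hX : ∀ k, Acyc F (N.X k)) (k : ℤ) :
    Acyc F (N.cycles k) := by
  have : ∀ (j : ℕ) (k : ℤ), k < a + j → Acyc F (N.cycles k) := by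
    intro j
    induction j with
    | zero =>
      intro k hk i hi
      exact (F.rightDerived i).map_isZero (IsZero.of_mono (N.iCycles k) (N.isZero_of_isStrictlyGE a k (by omega)))
    | succ j ih =>
      intro k hk
      exact (acyc_iff F (shortExact_cycles N (k - 1) k (by simp) (hN k)) (ih (k - 1) (by omega))).1 (hX (k - 1))
  exact this ((k - a).toNat + 1) k (by omega)

/-- the functor preserves acyclicity of bounded below complexes of acyclic objects -/
theorem acyclic_map_of_bdd {a : ℤ} [N.IsStrictlyGE a] (hN : N.Acyclic) (hX : ∀ k, Acyc F (N.X k)) :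
    ((F.mapHomologicalComplex (ComplexShape.up ℤ)).obj N).Acyclic :=
  acyclic_of_cycles F N hN fun k =>
    shortExact_map F (shortExact_cycles N k (k + 1) (by simp) (hN _)) (acyc_cycles_of_bdd F (a := a) hN hX k 1 Nat.one_pos)

theorem acyc_mappingCone {K L : CochainComplex A ℤ} (φ : K ⟶ L) (hK : ∀ k, Acyc F (K.X k))
    (hL : ∀ k, Acyc F (L.X k)) (k : ℤ) : Acyc F ((CochainComplex.mappingCone φ).X k) := fun i hi => by
  haveI : (F.rightDerived i).Additive := inferInstance
  rw [IsZero.iff_id_eq_zero, ← (F.rightDerived i).map_id,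
    ← CochainComplex.mappingCone.id_X φ k (k + 1) rfl, Functor.map_add, Functor.map_comp,
    Functor.map_comp, (hK (k + 1) i hi).eq_of_tgt ((F.rightDerived i).map _) 0,
    (hL k i hi).eq_of_tgt ((F.rightDerived i).map _) 0, zero_comp, zero_comp, add_zero]

omit [PreservesFiniteLimits F] in
/-- a quasi-isomorphism is preserved as soon as the cone stays acyclic -/
theorem quasiIso_map_of_cone {K L : CochainComplex A ℤ} (s : K ⟶ L)
    (h : ((F.mapHomologicalComplex (ComplexShape.up ℤ)).obj (CochainComplex.mappingCone s)).Acyclic) :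
    QuasiIso ((F.mapHomologicalComplex (ComplexShape.up ℤ)).map s) := by
  letI : HasDerivedCategory B := HasDerivedCategory.standard B
  rw [DerPlus.quasiIso_iff_acyclic_mappingCone]
  exact fun j => (h j).of_iso (CochainComplex.mappingCone.mapHomologicalComplexIso s F)

end Groth.Agent.AcycDef
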