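import Groth.Agent.AcycDef.Compare
import Mathlib

/-!
# The total derived functor as a shifted left derived functor
-/

set_option autoImplicit false
set_option linter.style.haveILetI false
set_option linter.unusedSectionVars false
set_option backward.isDefEq.respectTransparency false
set_option backward.isDefEq.respectTransparency.types false

universe w w' v v' u u'

open CategoryTheory Limits Pretriangulated

namespace Groth.Agent.AcycDef

namespace IsDefLeft

variable {C D H H' : Type*} [Category* C] [Category* D] [Category* H] [Category* H'] {L : C ⥤ D} {F : C ⥤ H}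
  {P : ObjectProperty C}

theorem comp (h : IsDefLeft L F P) (E : H ⥤ H') : IsDefLeft L (F ⋙ E) P where
  roof hI g := by
    obtain ⟨J, f, s, hJ, h1, h2, e⟩ := h.roof hI g
    haveI := h2
    exact ⟨J, f, s, hJ, h1, inferInstanceAs (IsIso (E.map (F.map s))), e⟩
  wd f g hI e := congrArg E.map (h.wd f g hI e)
  res := h.res

end IsDefLeft

variable {A : Type u} [Category.{v} A] [Abelian A] [EnoughInjectives A] [HasDerivedCategory.{w} A]
  {B : Type u'} [Category.{v'} B] [Abelian B] [HasDerivedCategory.{w'} B] (F : A ⥤ B) [F.Additive]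

section

variable (RF : DerivedCategory A ⥤ DerivedCategory B)
  (α : F.mapHomologicalComplex (ComplexShape.up ℤ) ⋙ DerivedCategory.Q ⟶ DerivedCategory.Q ⋙ RF)

/-- extension of the unit to the homotopy category -/
noncomputable def unitK : F.mapHomotopyCategory (ComplexShape.up ℤ) ⋙ DerivedCategory.Qh ⟶ DerivedCategory.Qh ⋙ RF :=
  Quotient.natTransLift _
    { app := fun X => (DerivedCategory.quotientCompQhIso B).hom.app ((F.mapHomologicalComplex _).obj X) ≫ α.app X ≫
        RF.map ((DerivedCategory.quotientCompQhIso A).inv.app X)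
      naturality := fun X Y f => by
        show DerivedCategory.Qh.map ((HomotopyCategory.quotient B (ComplexShape.up ℤ)).map ((F.mapHomologicalComplex _).map f)) ≫
            (DerivedCategory.quotientCompQhIso B).hom.app ((F.mapHomologicalComplex _).obj Y) ≫ α.app Y ≫
              RF.map ((DerivedCategory.quotientCompQhIso A).inv.app Y) =
          ((DerivedCategory.quotientCompQhIso B).hom.app ((F.mapHomologicalComplex _).obj X) ≫ α.app X ≫
            RF.map ((DerivedCategory.quotientCompQhIso A).inv.app X)) ≫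
              RF.map (DerivedCategory.Qh.map ((HomotopyCategory.quotient A (ComplexShape.up ℤ)).map f))
        rw [DerivedCategory.quotientCompQhIso_hom_naturality_assoc, Category.assoc, Category.assoc, ← RF.map_comp,
          ← DerivedCategory.quotientCompQhIso_inv_naturality, RF.map_comp]
        have n1 := α.naturality f
        simp only [Functor.comp_map] at n1
        rw [reassoc_of% n1] }

lemma unitK_app (X : CochainComplex A ℤ) :
    (unitK F RF α).app ((HomotopyCategory.quotient A (ComplexShape.up ℤ)).obj X) =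
      (DerivedCategory.quotientCompQhIso B).hom.app ((F.mapHomologicalComplex _).obj X) ≫ α.app X ≫
        RF.map ((DerivedCategory.quotientCompQhIso A).inv.app X) := rfl

variable [PreservesFiniteLimits F] [RF.IsRightDerivedFunctor α (HomologicalComplex.quasiIso A (ComplexShape.up ℤ))]
  {n : ℕ} (hn : ∀ X : A, IsZero ((F.rightDerived n).obj X))

include hn in
/-- the derived functor is computed by acyclic objects -/
theorem isIso_unit (X : CochainComplex A ℤ) (hX : ∀ k, Acyc F (X.X k)) : IsIso (α.app X) := by
  let Φ := F.mapHomotopyCategory (ComplexShape.up ℤ) ⋙ DerivedCategory.Qh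
  let W := HomotopyCategory.quasiIso A (ComplexShape.up ℤ)
  have hdef := isDef_acyc.{w, w'} F hn
  haveI : Φ.HasRightDerivedFunctor W := hdef.hasRightDerivedFunctor W
  let RF' := Φ.totalRightDerived DerivedCategory.Qh W
  let β : Φ ⟶ DerivedCategory.Qh ⋙ RF' := Φ.totalRightDerivedUnit DerivedCategory.Qh W
  haveI hβ : IsIso (β.app ((HomotopyCategory.quotient A (ComplexShape.up ℤ)).obj X)) :=
    hdef.isIso_app W RF' β hX
  let β' : F.mapHomologicalComplex (ComplexShape.up ℤ) ⋙ DerivedCategory.Q ⟶ DerivedCategory.Q ⋙ RF' :=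
    { app := fun Y => (DerivedCategory.quotientCompQhIso B).inv.app ((F.mapHomologicalComplex _).obj Y) ≫
        β.app ((HomotopyCategory.quotient A (ComplexShape.up ℤ)).obj Y) ≫
        RF'.map ((DerivedCategory.quotientCompQhIso A).hom.app Y)
      naturality := fun Y Z f => by
        have n1 := β.naturality ((HomotopyCategory.quotient A (ComplexShape.up ℤ)).map f)
        change DerivedCategory.Qh.map ((HomotopyCategory.quotient B (ComplexShape.up ℤ)).map
          ((F.mapHomologicalComplex _).map f)) ≫ _ = _ ≫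
            RF'.map (DerivedCategory.Qh.map ((HomotopyCategory.quotient A (ComplexShape.up ℤ)).map f)) at n1
        simp only [Functor.comp_map, Category.assoc]
        rw [DerivedCategory.quotientCompQhIso_inv_naturality_assoc, reassoc_of% n1, ← RF'.map_comp, ← RF'.map_comp,
          DerivedCategory.quotientCompQhIso_hom_naturality] }
  let W₀ := HomologicalComplex.quasiIso A (ComplexShape.up ℤ)
  let θ := RF.rightDerivedDesc α W₀ RF' β'
  let θ' := RF'.rightDerivedDesc β W RF (unitK F RF α)
  have h1 : θ ≫ θ' = 𝟙 RF := by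
    refine RF.rightDerived_ext α W₀ _ _ _ ?_
    ext Y
    have e2 := RF'.rightDerived_fac_app β W RF (unitK F RF α) ((HomotopyCategory.quotient A (ComplexShape.up ℤ)).obj Y)
    rw [unitK_app] at e2
    simp only [NatTrans.comp_app, Functor.whiskerLeft_app, NatTrans.id_app, Category.comp_id, θ]
    rw [RF.rightDerived_fac_app_assoc α W₀ RF' β']
    simp only [β', Category.assoc]
    rw [θ'.naturality, reassoc_of% e2]
    simp [← RF.map_comp]
  have h2 : θ' ≫ θ = 𝟙 RF' := by
    refine RF'.rightDerived_ext β W _ _ _ ?_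
    ext ⟨Y⟩
    have e1 := RF.rightDerived_fac_app α W₀ RF' β' Y
    simp only [NatTrans.comp_app, Functor.whiskerLeft_app, NatTrans.id_app, Category.comp_id, θ']
    rw [RF'.rightDerived_fac_app_assoc β W RF (unitK F RF α)]
    refine Eq.trans ?_ (Category.comp_id _).symm
    show ((unitK F RF α).app ((HomotopyCategory.quotient A (ComplexShape.up ℤ)).obj Y)) ≫
      θ.app (DerivedCategory.Qh.obj ((HomotopyCategory.quotient A (ComplexShape.up ℤ)).obj Y)) =
      β.app ((HomotopyCategory.quotient A (ComplexShape.up ℤ)).obj Y)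
    rw [unitK_app]
    refine ((Category.assoc _ _ _).trans (congrArg (_ ≫ ·) ((Category.assoc _ _ _).trans
      (congrArg (_ ≫ ·) (θ.naturality _))))).trans ?_
    refine (congrArg (_ ≫ ·) (((Category.assoc _ _ _).symm.trans (congrArg (· ≫ _) e1)))).trans ?_
    simp only [β', Category.assoc, ← RF'.map_comp, Iso.hom_inv_id_app, Functor.map_id]
    erw [Iso.hom_inv_id_app_assoc]
    erw [RF'.map_id, Category.comp_id]
  haveI : IsIso (θ.app (DerivedCategory.Q.obj X)) :=
    ⟨θ'.app _, by rw [← NatTrans.comp_app, h1]; rfl, by rw [← NatTrans.comp_app, h2]; rfl⟩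
  haveI : IsIso (α.app X ≫ θ.app (DerivedCategory.Q.obj X)) := by
    rw [RF.rightDerived_fac_app α W₀ RF' β' X]
    exact IsIso.comp_isIso' inferInstance (IsIso.comp_isIso' hβ inferInstance)
  exact IsIso.of_isIso_comp_right (α.app X) (θ.app (DerivedCategory.Q.obj X))

include hn in
theorem isIso_unitK (X : HomotopyCategory A (ComplexShape.up ℤ)) (hX : AcycCx F X) :
    IsIso ((unitK F RF α).app X) := by
  obtain ⟨X⟩ := X
  haveI := isIso_unit F RF α hn X hX
  show IsIso ((unitK F RF α).app ((HomotopyCategory.quotient A (ComplexShape.up ℤ)).obj X))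
  rw [unitK_app]
  infer_instance

end

/-- the comparison on cosyzygies -/
noncomputable def tauNat (n : ℕ) [(F.rightDerived n).Additive] :
    cosyz A n ⋙ F.mapHomotopyCategory (ComplexShape.up ℤ) ⋙ DerivedCategory.Qh ⟶
      (F.rightDerived n).mapHomologicalComplex (ComplexShape.up ℤ) ⋙ DerivedCategory.Q where
  app K := (DerivedCategory.quotientCompQhIso B).hom.app ((F.mapHomologicalComplex _).obj
    ((injectiveResolution K).cocomplex.cycles n)) ≫ DerivedCategory.Q.map (tau F (injectiveResolution K) n)
  naturality K L f := by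
    show DerivedCategory.Qh.map ((HomotopyCategory.quotient B (ComplexShape.up ℤ)).map ((F.mapHomologicalComplex _).map
        (HomologicalComplex.cyclesMap (InjectiveResolution.desc f _ _) n))) ≫ _ = (_ ≫ _) ≫ DerivedCategory.Q.map _
    rw [DerivedCategory.quotientCompQhIso_hom_naturality_assoc, ← Functor.map_comp,
      tau_naturality F n (ι₀_desc A f (injectiveResolution K) (injectiveResolution L)), Functor.map_comp, Category.assoc]

variable [PreservesFiniteLimits F] (n : ℕ) [(F.rightDerived n).Additive]
  (hdim : ∀ (X : A) (i : ℕ), n < i → IsZero ((F.rightDerived i).obj X))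
  (RF : DerivedCategory A ⥤ DerivedCategory B)
  (α : F.mapHomologicalComplex (ComplexShape.up ℤ) ⋙ DerivedCategory.Q ⟶ DerivedCategory.Q ⋙ RF)
  [RF.IsRightDerivedFunctor α (HomologicalComplex.quasiIso A (ComplexShape.up ℤ))]

/-- the isomorphisms defining the shifted cosyzygy -/
noncomputable def cosyzShiftObjIso (K : CochainComplex A ℤ) :
    (cosyz A n ⋙ shiftFunctor (HomotopyCategory A (ComplexShape.up ℤ)) (-(n : ℤ))).obj K ≅
      (HomotopyCategory.quotient A (ComplexShape.up ℤ)).obj (((injectiveResolution K).cocomplex.cycles n)⟦(-(n : ℤ))⟧) :=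
  (((HomotopyCategory.quotient A (ComplexShape.up ℤ)).commShiftIso (-(n : ℤ))).app _).symm

/-- the shifted cosyzygy -/
noncomputable abbrev cosyzShift : CochainComplex A ℤ ⥤ HomotopyCategory A (ComplexShape.up ℤ) :=
  (cosyz A n ⋙ shiftFunctor (HomotopyCategory A (ComplexShape.up ℤ)) (-(n : ℤ))).copyObj _ (cosyzShiftObjIso n)

/-- comparison with the shift -/
noncomputable def cosyzShiftCompare : cosyzShift (A := A) n ≅
    cosyz A n ⋙ shiftFunctor (HomotopyCategory A (ComplexShape.up ℤ)) (-(n : ℤ)) :=
  (Functor.isoCopyObj _ _ _).symm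

/-- the shifted cosyzygy recovers the complex -/
noncomputable def cosyzShiftIso : cosyzShift (A := A) n ⋙ DerivedCategory.Qh ≅ DerivedCategory.Q :=
  Functor.isoWhiskerRight (cosyzShiftCompare n) _ ≪≫
    Functor.associator _ _ _ ≪≫ Functor.isoWhiskerLeft (cosyz A n) (DerivedCategory.Qh.commShiftIso (-(n : ℤ))) ≪≫
    (Functor.associator _ _ _).symm ≪≫ Functor.isoWhiskerRight (cosyzIso A n) _ ≪≫
    Functor.associator _ _ _ ≪≫
    Functor.isoWhiskerLeft DerivedCategory.Q (shiftFunctorCompIsoId (DerivedCategory A) (n : ℤ) (-(n : ℤ)) (by simp)) ≪≫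
    Functor.rightUnitor _

include hdim in
theorem acyc_cosyzShift (K : CochainComplex A ℤ) : AcycCx F ((cosyzShift n).obj K) := fun k i hi =>
  isZero_cycles F (injectiveResolution K) hdim (k + -(n : ℤ)) i hi

/-- the comparison -/
noncomputable def unitIso : cosyzShift n ⋙ F.mapHomotopyCategory (ComplexShape.up ℤ) ⋙ DerivedCategory.Qh ≅
    DerivedCategory.Q ⋙ RF :=
  haveI : ∀ K, IsIso ((Functor.whiskerLeft (cosyzShift n) (unitK F RF α)).app K) := fun K =>
    isIso_unitK F RF α (n := n + 1) (fun X => hdim X (n + 1) n.lt_succ_self) _ (acyc_cosyzShift F n hdim K)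
  haveI : IsIso (Functor.whiskerLeft (cosyzShift n) (unitK F RF α)) := NatIso.isIso_of_isIso_app _
  asIso (Functor.whiskerLeft (cosyzShift n) (unitK F RF α)) ≪≫ (Functor.associator _ _ _).symm ≪≫
    Functor.isoWhiskerRight (cosyzShiftIso n) RF

/-- the comparison of the derived functor with the shift of the top derived functor -/
noncomputable def theta : DerivedCategory.Q ⋙ RF ⟶
    ((F.rightDerived n).mapHomologicalComplex (ComplexShape.up ℤ) ⋙ DerivedCategory.Q) ⋙
      shiftFunctor (DerivedCategory B) (-(n : ℤ)) :=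
  (unitIso F n hdim RF α).inv ≫
    (Functor.isoWhiskerRight (cosyzShiftCompare n) _ ≪≫ (Functor.associator _ _ _) ≪≫
      Functor.isoWhiskerLeft (cosyz A n)
        ((F.mapHomotopyCategory (ComplexShape.up ℤ) ⋙ DerivedCategory.Qh).commShiftIso (-(n : ℤ))) ≪≫
      (Functor.associator _ _ _).symm).hom ≫
    Functor.whiskerRight (tauNat F n) _

theorem isIso_theta (K : CochainComplex A ℤ) (hK : PClCx F n K) : IsIso ((theta F n hdim RF α).app K) := by
  haveI : IsIso ((tauNat F n).app K) := by
    haveI : IsIso (DerivedCategory.Q.map (tau F (injectiveResolution K) n)) :=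
      (DerivedCategory.isIso_Q_map_iff_quasiIso _ _).2 (quasiIso_tau F (injectiveResolution K) n hdim hK)
    exact inferInstanceAs (IsIso (_ ≫ _))
  simp only [theta, NatTrans.comp_app, Functor.whiskerRight_app]
  infer_instance

include hdim α in
/-- the main comparison -/
theorem exists_iso (hP : ∀ X : A, ∃ (Y : A) (p : Y ⟶ X), Epi p ∧ PCl F n Y)
    [((F.rightDerived n).mapHomologicalComplex (ComplexShape.up ℤ) ⋙ DerivedCategory.Q).HasLeftDerivedFunctor
      (HomologicalComplex.quasiIso A (ComplexShape.up ℤ))] :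
    Nonempty (RF ≅ ((F.rightDerived n).mapHomologicalComplex (ComplexShape.up ℤ) ⋙ DerivedCategory.Q).totalLeftDerived
      DerivedCategory.Q (HomologicalComplex.quasiIso A (ComplexShape.up ℤ)) ⋙
        shiftFunctor (DerivedCategory B) (-(n : ℤ))) := by
  let G := (F.rightDerived n).mapHomologicalComplex (ComplexShape.up ℤ) ⋙ DerivedCategory.Q
  let W := HomologicalComplex.quasiIso A (ComplexShape.up ℤ)
  let E := shiftFunctor (DerivedCategory B) (-(n : ℤ))
  have hdef := isDefLeft_pcl.{w, w'} F hdim hP
  let LG := G.totalLeftDerived DerivedCategory.Q W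
  let γ : DerivedCategory.Q ⋙ LG ⟶ G := G.totalLeftDerivedCounit DerivedCategory.Q W
  let δ : DerivedCategory.Q ⋙ (LG ⋙ E) ⟶ G ⋙ E :=
    (Functor.associator DerivedCategory.Q LG E).inv ≫ Functor.whiskerRight γ E
  have hγ : ∀ K, PClCx F n K → IsIso (δ.app K) := fun K hK => by
    haveI := hdef.isIso_app W LG γ hK
    simp only [δ, NatTrans.comp_app, Functor.whiskerRight_app]
    infer_instance
  haveI := (hdef.comp E).isLeftDerivedFunctor W (LG ⋙ E) δ hγ
  haveI := (hdef.comp E).isLeftDerivedFunctor W RF _ (fun K hK => isIso_theta F n hdim RF α K hK)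
  exact ⟨(Functor.leftDerivedUnique RF (LG ⋙ E) δ (theta F n hdim RF α) W).symm⟩

end Groth.Agent.AcycDef
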